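import Groth.Agent.CohtopA.Soft
import Groth.Agent.CohtopA.ExtColim

/-!
# Cohomology of compact Hausdorff spaces commutes with filtered colimits of abelian sheaves

For `X` compact Hausdorff:

* `exists_zero_near`, `exists_rep_near` : sections near a compact set of a filtered colimit of
  sheaves come from (vanish at) a finite stage near that compact set;
* `isSoft_of_isColimit` : a filtered colimit of flasque sheaves is soft, hence acyclic;
* `preservesColimitsOfShape_ext` : `Ext^q(ℤ_X, -)` commutes with filtered colimits.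
-/

set_option autoImplicit false
universe u v' u'

open CategoryTheory TopologicalSpace Opposite CategoryTheory.Limits CategoryTheory.Abelian
open Groth.Agent.CohtopA.Sec Groth.Agent.CohtopA.ColimLocal Groth.Agent.CohtopA.ColimSections
open Groth.Agent.CohtopA.Germ Groth.Agent.CohtopA.RelT2
open Groth.Agent.CohtopA

namespace Groth.Agent.An.H4.ColimT2

variable {X : TopCat.{u}} {J : Type u'} [Category.{v'} J] [IsFiltered J]
  [PreservesColimitsOfShape J (forget AddCommGrpCat.{u})]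
  {D : J ⥤ CohTop.Ab X} {c : Cocone D}

/-- A section near a compact set of a stage which dies in the colimit dies, after shrinking, at a
finite stage. -/
theorem exists_zero_near (hc : IsColimit c) {K : Set X} (hK : IsCompact K) {U : Opens X}
    (hU : K ⊆ U) {j : J} (s : Γs (D.obj j) U) (hs : m (leg c j) U s = 0) :
    ∃ (V : Opens X) (h : V ≤ U) (k : J) (f : j ⟶ k), K ⊆ V ∧ m (D.map f) V (r _ h s) = 0 := by
  have key := hK.induction_on (p := fun A => ∃ (V : Opens X) (h : V ≤ U) (k : J) (f : j ⟶ k),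
    A ⊆ V ∧ m (D.map f) V (r _ h s) = 0) ?_ ?_ ?_ ?_
  · exact key
  · refine ⟨⊥, bot_le, j, 𝟙 j, Set.empty_subset _, ?_⟩
    have := subsingleton_bot (D.obj j) ⊥ (fun x hx => hx)
    exact Subsingleton.elim _ _
  · rintro A B hAB ⟨W, h, k, f, hW, e⟩
    exact ⟨W, h, k, f, hAB.trans hW, e⟩
  · rintro A B ⟨W₁, h₁, k₁, f₁, hW₁, e₁⟩ ⟨W₂, h₂, k₂, f₂, hW₂, e₂⟩
    obtain ⟨k, g₁, g₂, hg⟩ := IsFiltered.span f₁ f₂
    refine ⟨W₁ ⊔ W₂, sup_le h₁ h₂, k, f₁ ≫ g₁, Set.union_subset_union hW₁ hW₂, ?_⟩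
    refine sep₂ rfl _ _ ?_ ?_
    · rw [← m_r, r_r, D.map_comp, m_comp, e₁, map_zero, map_zero]
    · rw [← m_r, r_r, hg, D.map_comp, m_comp, e₂, map_zero, map_zero]
  · intro x hx
    obtain ⟨V, h, k, f, hxV, e⟩ := ColimLocal.exists_local_zero hc s hs x (hU hx)
    exact ⟨V, mem_nhdsWithin_of_mem_nhds (V.isOpen.mem_nhds hxV), V, h, k, f, subset_rfl, e⟩

/-- A section of a filtered colimit of sheaves near a compact set comes, after shrinking, from a
finite stage. -/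
theorem exists_rep_near [CompactSpace X] [T2Space X] (hc : IsColimit c) {K : Set X}
    (hK : IsCompact K) {U : Opens X} (hU : K ⊆ U) (s : Γs c.pt U) :
    ∃ (V : Opens X) (h : V ≤ U) (j : J) (t : Γs (D.obj j) V), K ⊆ V ∧
      m (leg c j) V t = r _ h s := by
  have key := hK.induction_on (p := fun A => ∃ (L : Set X) (V : Opens X) (h : V ≤ U) (j : J)
    (t : Γs (D.obj j) V), IsCompact L ∧ A ⊆ L ∧ L ⊆ V ∧ m (leg c j) V t = r _ h s) ?_ ?_ ?_ ?_
  · obtain ⟨L, V, h, j, t, -, hKL, hLV, e⟩ := key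
    exact ⟨V, h, j, t, hKL.trans hLV, e⟩
  · refine ⟨∅, ⊥, bot_le, Classical.choice IsFiltered.nonempty, 0, isCompact_empty,
      Set.empty_subset _, Set.empty_subset _, ?_⟩
    have := subsingleton_bot c.pt ⊥ (fun x hx => hx)
    exact Subsingleton.elim _ _
  · rintro A B hAB ⟨L, V, h, j, t, hL, hB, hLV, e⟩
    exact ⟨L, V, h, j, t, hL, hAB.trans hB, hLV, e⟩
  · rintro A B ⟨L₁, W₁, h₁, j₁, t₁, hc₁, hA, hLW₁, e₁⟩ ⟨L₂, W₂, h₂, j₂, t₂, hc₂, hB, hLW₂, e₂⟩
    let j := IsFiltered.max j₁ j₂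
    let g₁ : j₁ ⟶ j := IsFiltered.leftToMax j₁ j₂
    let g₂ : j₂ ⟶ j := IsFiltered.rightToMax j₁ j₂
    have w₁ : ∀ W (a : Γs (D.obj j₁) W) {k : J} (f : j ⟶ k),
        m (leg c k) W (m (D.map f) W (m (D.map g₁) W a)) = m (leg c j₁) W a := by
      intro W a k f
      rw [← m_comp, ← m_comp, c.w, c.w]
    have w₂ : ∀ W (a : Γs (D.obj j₂) W) {k : J} (f : j ⟶ k),
        m (leg c k) W (m (D.map f) W (m (D.map g₂) W a)) = m (leg c j₂) W a := by
      intro W a k f
      rw [← m_comp, ← m_comp, c.w, c.w]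
    obtain ⟨W, hW, k, f, hLW, hf⟩ := exists_zero_near hc (hc₁.inter hc₂)
      (U := W₁ ⊓ W₂) (fun x hx => ⟨hLW₁ hx.1, hLW₂ hx.2⟩)
      (r (D.obj j) inf_le_left (m (D.map g₁) W₁ t₁) - r (D.obj j) inf_le_right (m (D.map g₂) W₂ t₂))
      (by
        have a₁ := w₁ (W₁ ⊓ W₂) (r _ inf_le_left t₁) (𝟙 j)
        have a₂ := w₂ (W₁ ⊓ W₂) (r _ inf_le_right t₂) (𝟙 j)
        rw [D.map_id, m_id, m_r, m_r] at a₁
        rw [D.map_id, m_id, m_r, m_r] at a₂
        rw [map_sub, m_r, m_r, a₁, a₂, m_r, m_r, e₁, e₂, r_r, r_r, sub_self])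
    rw [map_sub, map_sub, sub_eq_zero, r_r, r_r, m_r, m_r] at hf
    obtain ⟨U₁, U₂, hU₁, hU₂, w, hK₁, hK₂, hw₁, hw₂⟩ := Soft.glue_near
      (Soft.isRelT2_of_t2Space Set.univ) hc₁ hc₂
      (Set.subset_univ _) (Set.subset_univ _) hLW₁ hLW₂
      (m (D.map f) W₁ (m (D.map g₁) W₁ t₁)) (m (D.map f) W₂ (m (D.map g₂) W₂ t₂))
      (fun x hx₁ hx₂ => by
        have e := congrArg (gm (D.obj k) x (hLW ⟨hx₁, hx₂⟩)) hf
        rwa [gm_r, gm_r] at e)
    refine ⟨L₁ ∪ L₂, U₁ ⊔ U₂, sup_le (hU₁.trans h₁) (hU₂.trans h₂), k, w, hc₁.union hc₂,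
      Set.union_subset_union hA hB, Set.union_subset_union hK₁ hK₂, ?_⟩
    refine sep₂ rfl _ _ ?_ ?_
    · rw [← m_r, hw₁, m_r, w₁, e₁, r_r, r_r]
    · rw [← m_r, hw₂, m_r, w₂, e₂, r_r, r_r]
  · intro x hx
    obtain ⟨V, h, j, t, hxV, e⟩ := ColimLocal.exists_local_rep hc s x (hU hx)
    obtain ⟨L, hL, -, hLV, hLx⟩ := (Soft.isRelT2_of_t2Space Set.univ).exists_compact_nhds
      (isCompact_univ (X := X)) (Set.mem_univ x) V.isOpen hxV
    rw [nhdsWithin_univ] at hLx
    exact ⟨L, mem_nhdsWithin_of_mem_nhds hLx, L, V, h, j, t, hL, subset_rfl, hLV, e⟩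

/-- A global section of a filtered colimit of sheaves comes from a finite stage. -/
theorem exists_rep_top [CompactSpace X] [T2Space X] (hc : IsColimit c) (s : Γs c.pt ⊤) :
    ∃ (j : J) (t : Γs (D.obj j) ⊤), m (leg c j) ⊤ t = s := by
  obtain ⟨V, h, j, t, hV, e⟩ := exists_rep_near hc isCompact_univ (U := ⊤) (fun x _ => trivial) s
  obtain rfl : V = ⊤ := top_unique fun x _ => hV trivial
  exact ⟨j, t, by simpa using e⟩

/-- A global section dying in a filtered colimit dies at a finite stage. -/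
theorem exists_zero_top [CompactSpace X] (hc : IsColimit c) {j : J} (s : Γs (D.obj j) ⊤)
    (hs : m (leg c j) ⊤ s = 0) : ∃ (k : J) (f : j ⟶ k), m (D.map f) ⊤ s = 0 := by
  obtain ⟨V, h, k, f, hV, e⟩ := exists_zero_near hc isCompact_univ (U := ⊤) (fun x _ => trivial)
    s hs
  obtain rfl : V = ⊤ := top_unique fun x _ => hV trivial
  exact ⟨k, f, by simpa using e⟩

/-- A filtered colimit of soft sheaves on a compact Hausdorff space is soft. -/
theorem isSoft_of_isColimit [CompactSpace X] [T2Space X] (hc : IsColimit c)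
    (hD : ∀ j, Soft.IsSoft (D.obj j)) : Soft.IsSoft c.pt := by
  intro K V hV t hK
  obtain ⟨W, hW, j, s, hKW, e⟩ := exists_rep_near hc hK.isCompact hV t
  obtain ⟨w, hw⟩ := hD j K W hKW s hK
  refine ⟨m (leg c j) ⊤ w, fun x hx => ?_⟩
  rw [← sm_gm, hw x hx, sm_gm, e, gm_r]

/-- `Hom(ℤ_X, -)` commutes with filtered colimits. -/
theorem preservesColimitsOfShape_ext_zero (X : TopCat.{u}) [CompactSpace X] [T2Space X]
    (J : Type u') [Category.{v'} J] [IsFiltered J]
    [PreservesColimitsOfShape J (forget AddCommGrpCat.{u})]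
    [HasColimitsOfShape J AddCommGrpCat.{u}] :
    PreservesColimitsOfShape J
      (extFunctorObj.{u} (FreeAb.freeAb (Opens.grothendieckTopology X) ⊤) 0) := by
  refine ⟨fun {D} => ⟨fun {c} hc => ?_⟩⟩
  have hk : ∀ (F : CohTop.Ab X) (x : Ext.{u} (FreeAb.freeAb (Opens.grothendieckTopology X) ⊤) F 0),
      ∃ f, x = Ext.mk₀ f := fun F x => by
    obtain ⟨f, rfl⟩ := (Ext.mk₀_bijective _ _).2 x
    exact ⟨f, rfl⟩
  refine FiltColim.nonempty_isColimit_of_elements _ ?_ ?_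
  · intro x
    obtain ⟨f, rfl⟩ := hk _ x
    obtain ⟨j, t, ht⟩ := exists_rep_top hc (FreeAb.homEv ⊤ c.pt f)
    obtain ⟨g, rfl⟩ := (FreeAb.homEv_bijective ⊤ (D.obj j)).2 t
    refine ⟨j, Ext.mk₀ g, ?_⟩
    change (Ext.mk₀ g).comp (Ext.mk₀ (leg c j)) (add_zero 0) = Ext.mk₀ f
    rw [Ext.mk₀_comp_mk₀]
    congr 1
    exact (FreeAb.homEv_bijective ⊤ c.pt).1 ht
  · intro j x hx
    obtain ⟨f, rfl⟩ := hk _ x
    change (Ext.mk₀ f).comp (Ext.mk₀ (leg c j)) (add_zero 0) = 0 at hx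
    rw [Ext.mk₀_comp_mk₀, Ext.mk₀_eq_zero_iff] at hx
    obtain ⟨k, g, hg⟩ := exists_zero_top hc (FreeAb.homEv ⊤ (D.obj j) f) (by
      have := FreeAb.homEv_comp f (leg c j)
      rw [hx, map_zero] at this
      exact this.symm)
    refine ⟨k, g, ?_⟩
    change (Ext.mk₀ f).comp (Ext.mk₀ (D.map g)) (add_zero 0) = 0
    rw [Ext.mk₀_comp_mk₀, Ext.mk₀_eq_zero_iff]
    apply (FreeAb.homEv_bijective ⊤ (D.obj k)).1
    rw [map_zero]
    exact hg

/-- `H^q(X, -)` (as `Ext` out of the free sheaf on `⊤`) commutes with filtered colimits for `X`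
compact Hausdorff. -/
theorem preservesColimitsOfShape_ext (X : TopCat.{u}) [CompactSpace X] [T2Space X]
    (J : Type u') [Category.{v'} J] [IsFiltered J]
    [PreservesColimitsOfShape J (forget AddCommGrpCat.{u})]
    [HasColimitsOfShape J AddCommGrpCat.{u}] [HasExactColimitsOfShape J (CohTop.Ab X)] (q : ℕ) :
    PreservesColimitsOfShape J
      (extFunctorObj.{u} (FreeAb.freeAb (Opens.grothendieckTopology X) ⊤) q) := by
  refine ExtColim.preservesColimitsOfShape_ext _ (preservesColimitsOfShape_ext_zero X J) ?_ q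
  intro D hD n
  refine subsingleton_of_forall_eq 0 fun x => ?_
  refine Soft.ext_succ_eq_zero _ ?_ n x
  exact isSoft_of_isColimit (colimit.isColimit D) (fun j => by
    have : TopCat.Sheaf.IsFlasque (D.obj j) := Flasque.isFlasque_of_injective _
    exact Soft.isSoft_of_isFlasque _)

end Groth.Agent.An.H4.ColimT2
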