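import Groth.Agent.CohtopA.ExtAdj
import Groth.Agent.CohtopA.HTop
import Mathlib.CategoryTheory.Sites.Equivalence
import Mathlib.CategoryTheory.Sites.ConstantSheaf
import Mathlib.CategoryTheory.Adjunction.Unique
import Mathlib.CategoryTheory.Preadditive.Injective.Basic

/-!
# Transport of colimit-preservation of `Ext(Z, -)` along an equivalence

* `extIso` : for an equivalence `Φ : A ⥤ B` and `Z ≅ Φ Z'`, `Ext^n(Z', -) ≅ Φ ⋙ Ext^n(Z, -)`;
* `preservesColimitsOfShape_iff` : one side preserves colimits iff the other one does;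
* `constIso` : for two categories with constant-sheaf adjunctions compatible with an equivalence,
  the constant objects correspond.
-/

set_option autoImplicit false

open CategoryTheory CategoryTheory.Limits CategoryTheory.Abelian

namespace Groth.Agent.An.H4.ExtEquiv

universe w v v' v'' u u' u'' vJ uJ

variable {A : Type u} [Category.{v} A] [Abelian A] {B : Type u'} [Category.{v'} B] [Abelian B]
  [HasExt.{w} A] [HasExt.{w} B] [EnoughInjectives A]
  (Φ : A ⥤ B) [Φ.IsEquivalence] [Φ.Additive]

open Groth.Agent.CohtopA.ExtAdj Groth.Agent.CohtopA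

/-- `Ext` groups are invariant under an equivalence. -/
noncomputable def extIso {Z : B} {Z' : A} (c : Z ≅ Φ.obj Z') (n : ℕ) :
    extFunctorObj.{w} Z' n ≅ Φ ⋙ extFunctorObj.{w} Z n :=
  NatIso.ofComponents (fun Y => (AddEquiv.ofBijective (extOfHom Φ c.hom Y n)
    (extOfHom_bijective Φ c.hom
      (fun Y => by
        refine ⟨fun f g h => ?_, fun g => ⟨Φ.preimage (c.inv ≫ g), by simp⟩⟩
        have h' : c.hom ≫ Φ.map f = c.hom ≫ Φ.map g := h
        rw [cancel_epi] at h'
        exact Φ.map_injective h')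
      (fun I _ n => by
        have : Injective (Φ.obj I) :=
          Injective.injective_of_adjoint Φ.asEquivalence.symm.toAdjunction I
        exact subsingleton_of_forall_eq 0 fun x => Ext.eq_zero_of_injective x) Y n)).toAddCommGrpIso)
    (by
      intro Y Y' f
      ext x
      change extOfHom Φ c.hom Y' n (Ext.comp x (Ext.mk₀ f) (add_zero n)) =
        (extOfHom Φ c.hom Y n x).comp (Ext.mk₀ (Φ.map f)) (add_zero n)
      rw [extOfHom_comp, Ext.mapExactFunctor_mk₀])

theorem preservesColimitsOfShape_of {Z : B} {Z' : A} (c : Z ≅ Φ.obj Z') (n : ℕ)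
    (J : Type uJ) [Category.{vJ} J] [PreservesColimitsOfShape J (extFunctorObj.{w} Z n)] :
    PreservesColimitsOfShape J (extFunctorObj.{w} Z' n) :=
  preservesColimitsOfShape_of_natIso (extIso Φ c n).symm

theorem preservesColimitsOfShape_of' {Z : B} {Z' : A} (c : Z ≅ Φ.obj Z') (n : ℕ)
    (J : Type uJ) [Category.{vJ} J] [PreservesColimitsOfShape J (extFunctorObj.{w} Z' n)] :
    PreservesColimitsOfShape J (extFunctorObj.{w} Z n) :=
  preservesColimitsOfShape_of_natIso
    (F := Φ.inv ⋙ extFunctorObj.{w} Z' n)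
    (Functor.isoWhiskerLeft Φ.inv (extIso Φ c n) ≪≫ (Functor.associator _ _ _).symm ≪≫
      Functor.isoWhiskerRight Φ.asEquivalence.counitIso _ ≪≫ Functor.leftUnitor _)

omit [EnoughInjectives A] in
/-- Isomorphic objects: `Ext(Z, -)` preserves colimits iff `Ext(Z', -)` does. -/
theorem preservesColimitsOfShape_congr {Z Z' : A} (c : Z ≅ Z') (n : ℕ)
    (J : Type uJ) [Category.{vJ} J] [PreservesColimitsOfShape J (extFunctorObj.{w} Z n)] :
    PreservesColimitsOfShape J (extFunctorObj.{w} Z' n) :=
  preservesColimitsOfShape_of_natIso (F := extFunctorObj.{w} Z n)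
    (NatIso.ofComponents (fun Y => (HTop.extPrecompIso c.symm Y n).toAddCommGrpIso) (by
      intro Y Y' f
      ext x
      exact HTop.extPrecompIso_naturality c.symm n 0 n (add_zero n) x (Ext.mk₀ f)))

omit [Abelian A] [Abelian B] [HasExt.{w} A] [HasExt.{w} B] [EnoughInjectives A] [Φ.Additive] in
/-- The constant objects correspond under an equivalence compatible with global sections. -/
noncomputable def constIso {M : Type u''} [Category.{v''} M] {cA : M ⥤ A} {ΓA : A ⥤ M} {cB : M ⥤ B}
    {ΓB : B ⥤ M} (adjA : cA ⊣ ΓA) (adjB : cB ⊣ ΓB) (e : Φ ⋙ ΓB ≅ ΓA) : cB ≅ cA ⋙ Φ :=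
  Adjunction.leftAdjointUniq adjB
    ((adjA.comp Φ.asEquivalence.toAdjunction).ofNatIsoRight
      (Functor.isoWhiskerLeft Φ.inv e.symm ≪≫ (Functor.associator _ _ _).symm ≪≫
        Functor.isoWhiskerRight Φ.asEquivalence.counitIso _ ≪≫ Functor.leftUnitor _))

end Groth.Agent.An.H4.ExtEquiv
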