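import Groth.Agent.An.H4.ColimT2
import Groth.Agent.An.H4.ExtEquiv
import Groth.Agent.S4212
import Groth.Prelude.Def_AnEps
import Mathlib.Order.Category.PartOrd

/-!
# Cohomology of compact Hausdorff spaces commutes with filtered colimits: `AbTop` and `Cl.Ab` forms

`T` a compact Hausdorff space (in any universe `u`; sheaves have values in `AddCommGrpCat.{u+1}`),
`J` a small filtered category (`J : Type (u+1)` with morphisms in `Type (u+1)`, or more generally any
filtered `J` with the usual (co)limit instances):

* `preservesColimitsOfShape_HTop` : `HTop(-, q)` on `AbTop T` commutes with colimits of shape `J`;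
* `preservesColimitsOfShape_HF` : the same for `Cl.HF T q : Cl.Ab T ⥤ AddCommGrpCat.{1}` (`T : Type`);
* `exists_rep_H`, `exists_zero_H` : elementwise forms.
-/

set_option autoImplicit false
universe u v' u'

open CategoryTheory TopologicalSpace Opposite CategoryTheory.Limits CategoryTheory.Abelian
open Groth.Agent.CohtopA

noncomputable section

namespace Groth.Agent.An.H4.ColimT2Cl

section Homeo

variable {S : Type*} {T : Type*} [TopologicalSpace S] [TopologicalSpace T]

instance isCocontinuous_functor (φ : S ≃ₜ T) :
    φ.opensCongr.equivalence.functor.IsCocontinuous (Opens.grothendieckTopology S)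
      (Opens.grothendieckTopology T) where
  cover_lift {U R} hR := by
    intro x hx
    obtain ⟨V, f, hV, hxV⟩ := hR (φ x) (show φ.symm (φ x) ∈ U by simpa using hx)
    refine ⟨φ.opensCongr.symm V, homOfLE ?_, ?_, hxV⟩
    · intro y hy
      have h1 : φ y ∈ V := hy
      have h2 : φ.symm (φ y) ∈ U := f.le h1
      simpa using h2
    · have hle : φ.opensCongr (φ.opensCongr.symm V) ≤ V := (φ.opensCongr.apply_symm_apply V).le
      exact R.downward_closed hV (homOfLE hle)

instance isCocontinuous_inverse (φ : S ≃ₜ T) :
    φ.opensCongr.equivalence.inverse.IsCocontinuous (Opens.grothendieckTopology T)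
      (Opens.grothendieckTopology S) :=
  isCocontinuous_functor φ.symm

/-- The equivalence between abelian sheaves on homeomorphic spaces, possibly in different universes. -/
def sheafEquiv (φ : S ≃ₜ T) (A : Type*) [Category* A] :
    Sheaf (Opens.grothendieckTopology S) A ≌ Sheaf (Opens.grothendieckTopology T) A :=
  have : φ.opensCongr.equivalence.inverse.IsDenseSubsite (Opens.grothendieckTopology T)
      (Opens.grothendieckTopology S) :=
    Equivalence.isDenseSubsite_inverse_of_isCocontinuous _ _ _
  φ.opensCongr.equivalence.sheafCongr _ _ A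

end Homeo

variable (T : Type u) [TopologicalSpace T]

/-- The lift of `T` to `TopCat.{u+1}`. -/
abbrev up : TopCat.{u + 1} := TopCat.of (ULift.{u + 1} T)

/-- Abelian sheaves on `T` and on its universe lift. -/
abbrev upEquiv : CohTop.Ab (up T) ≌ _root_.An.AbTop T :=
  sheafEquiv (Homeomorph.ulift : ULift.{u + 1} T ≃ₜ T) AddCommGrpCat.{u + 1}

instance : (upEquiv T).functor.Additive where
  map_add := rfl

/-- The constant sheaf on the space corresponds to the free abelian sheaf on the whole lift. -/
def constUpIso : (constantSheaf (Opens.grothendieckTopology T) AddCommGrpCat.{u + 1}).obj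
      (AddCommGrpCat.of (ULift.{u + 1} ℤ)) ≅
    (upEquiv T).functor.obj (FreeAb.freeAb (Opens.grothendieckTopology (up T)) ⊤) :=
  (ExtEquiv.constIso (upEquiv T).functor
    (constantSheafAdj (Opens.grothendieckTopology (up T)) AddCommGrpCat.{u + 1}
      (isTerminalTop : IsTerminal (⊤ : Opens (up T))))
    (constantSheafAdj (Opens.grothendieckTopology T) AddCommGrpCat.{u + 1}
      (isTerminalTop : IsTerminal (⊤ : Opens T)))
    (NatIso.ofComponents (fun F => Iso.refl _) (fun _ => by
      simp
      rfl))).app _ ≪≫
  (upEquiv T).functor.mapIso (HTop.isoConst _ (isTerminalTop : IsTerminal (⊤ : Opens (up T))))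

section Main

variable [CompactSpace T] [T2Space T] (J : Type u') [Category.{v'} J] [IsFiltered J]
  [PreservesColimitsOfShape J (forget AddCommGrpCat.{u + 1})]
  [HasColimitsOfShape J AddCommGrpCat.{u + 1}]
  [HasExactColimitsOfShape J (CohTop.Ab (up T))]

/-- `HTop(-, q)` commutes with filtered colimits on a compact Hausdorff space, general shape. -/
theorem preservesColimitsOfShape_HTop' (q : ℕ) :
    PreservesColimitsOfShape J (extFunctorObj.{u + 1}
      ((constantSheaf (Opens.grothendieckTopology T) AddCommGrpCat.{u + 1}).obj
      (AddCommGrpCat.of (ULift.{u + 1} ℤ))) q) := by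
  have h1 : PreservesColimitsOfShape J
      (extFunctorObj.{u + 1} (FreeAb.freeAb (Opens.grothendieckTopology (up T)) ⊤) q) :=
    ColimT2.preservesColimitsOfShape_ext (up T) J q
  exact ExtEquiv.preservesColimitsOfShape_of' (upEquiv T).functor (constUpIso T) q J

end Main

variable [CompactSpace T] [T2Space T]

/-- On a compact Hausdorff space `T`, `G ↦ HTop G q` commutes with small filtered colimits of
abelian sheaves. -/
theorem preservesColimitsOfShape_HTop (J : Type (u + 1)) [SmallCategory J] [IsFiltered J] (q : ℕ) :
    PreservesColimitsOfShape J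
      (Sheaf.functorH (Opens.grothendieckTopology T) q :
        _root_.An.AbTop T ⥤ AddCommGrpCat.{u + 1}) :=
  preservesColimitsOfShape_HTop' T J q

section Cl

variable (T : Type) [TopologicalSpace T]

/-- `⊤` as an object of the classical site is terminal. -/
def topIsoSelf : (_root_.An.opensToCl T).obj ⊤ ≅ _root_.An.Cl.self T where
  hom := ⟨Subtype.val, continuous_subtype_val, fun _ => rfl⟩
  inv := ⟨fun t => ⟨t, trivial⟩, by fun_prop, fun _ => rfl⟩
  hom_inv_id := rfl
  inv_hom_id := rfl

variable [_root_.An.OpCont T]

/-- Global sections on the space and on the classical site agree. -/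
def resGsecIso : _root_.An.resOpens T ⋙
    (sheafSections (Opens.grothendieckTopology T) AddCommGrpCat.{1}).obj (op ⊤) ≅
      _root_.An.Cl.gsec T :=
  NatIso.ofComponents (fun G => (G.obj.mapIso (topIsoSelf T).op).symm)
    (fun φ => (φ.hom.naturality _).symm)

/-- The constant sheaf on the space is the restriction of the constant sheaf on the classical site. -/
def constResIso (hR : (_root_.An.resOpens T).IsEquivalence) :
    (constantSheaf (Opens.grothendieckTopology T) AddCommGrpCat.{1}).obj
      (AddCommGrpCat.of (ULift.{1} ℤ)) ≅
    (_root_.An.resOpens T).obj ((constantSheaf (_root_.An.Cl.topology T) AddCommGrpCat.{1}).obj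
      (AddCommGrpCat.of (ULift.{1} ℤ))) :=
  (ExtEquiv.constIso (_root_.An.resOpens T) (_root_.An.Cl.constAdj T)
    (constantSheafAdj (Opens.grothendieckTopology T) AddCommGrpCat.{1}
      (isTerminalTop : IsTerminal (⊤ : Opens T)))
    (resGsecIso T)).app _

end Cl

section ClMain

variable (T : Type) [TopologicalSpace T] [CompactSpace T] [T2Space T]

/-- On a compact Hausdorff space `T`, `H^q(T_cl, -)` commutes with small filtered colimits of abelian
sheaves on the classical site. -/
theorem preservesColimitsOfShape_HF (J : Type 1) [SmallCategory J] [IsFiltered J] (q : ℕ) :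
    PreservesColimitsOfShape J (_root_.An.Cl.HF T q) := by
  have : _root_.An.OpCont T := Groth.Agent.S4211.result T
  have hR : (_root_.An.resOpens T).IsEquivalence := Groth.Agent.S4212.result T
  have : (_root_.An.resOpens T).Additive := { map_add := rfl }
  have h1 : PreservesColimitsOfShape J (extFunctorObj.{1}
      ((constantSheaf (Opens.grothendieckTopology T) AddCommGrpCat.{1}).obj
      (AddCommGrpCat.of (ULift.{1} ℤ))) q) := preservesColimitsOfShape_HTop' T J q
  exact ExtEquiv.preservesColimitsOfShape_of (_root_.An.resOpens T) (constResIso T hR) q J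

variable {T} {J : Type 1} [SmallCategory J] [IsFiltered J] {D : J ⥤ _root_.An.Cl.Ab T} {c : Cocone D}

/-- A cohomology class of a filtered colimit comes from a finite stage. -/
theorem exists_rep_H (hc : IsColimit c) {q : ℕ} (x : _root_.An.Cl.H c.pt q) :
    ∃ (j : J) (y : _root_.An.Cl.H (D.obj j) q), Sheaf.H.map (c.ι.app j) q y = x := by
  have := preservesColimitsOfShape_HF T J q
  exact FiltColim.exists_rep (isColimitOfPreserves (_root_.An.Cl.HF T q) hc) x

/-- A cohomology class dying in a filtered colimit dies at a finite stage. -/
theorem exists_zero_H (hc : IsColimit c) {q : ℕ} {j : J} (y : _root_.An.Cl.H (D.obj j) q)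
    (hy : Sheaf.H.map (c.ι.app j) q y = 0) : ∃ (k : J) (f : j ⟶ k), Sheaf.H.map (D.map f) q y = 0 := by
  have := preservesColimitsOfShape_HF T J q
  exact FiltColim.exists_map_eq_zero (isColimitOfPreserves (_root_.An.Cl.HF T q) hc) j y hy

end ClMain

end Groth.Agent.An.H4.ColimT2Cl
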