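import Groth.Agent.Sga4B.GoodSheaf
import Groth.Agent.Sga4B.SuppPull
import Groth.Agent.Etcore.CurveNorm621
import Groth.Agent.Etcore.CurveGeo164
import Groth.Agent.Etcore.RootCover
import Groth.Agent.EtpbcA.CharPDim
import Groth.Prelude.Def_EtCore

/-!
# Constructible sheaves on a proper scheme of dimension `≤ 1` embed in finite sums of `p_* (ℤ/ℓ^e)`,
`p` finite from smooth proper curves or points
-/

set_option autoImplicit false
universe u

open CategoryTheory CategoryTheory.Limits AlgebraicGeometry Opposite TopologicalSpace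

namespace Groth.Agent.An.H4.CurveEmbed

open EtShriek Groth.Agent.Etrest.Supp Groth.Agent.Sga4B.SuppPull

/-- The units `F ⟶ g_{i*} g_i^* F` of a jointly surjective family are jointly monomorphic. -/
theorem eq_zero_of_unit {Y : Scheme.{u}} {ι : Type*} (Z : ι → Scheme.{u}) (g : ∀ i, Z i ⟶ Y)
    (hg : ∀ y : Y, ∃ (i : ι) (z : Z i), g i z = y) {F T : EtCoh.Ab Y} (t : T ⟶ F)
    (h : ∀ i, t ≫ (EtCoh.pullPushAdj (g i)).unit.app F = 0) : t = 0 := by
  apply (sheafToPresheaf Y.smallEtaleTopology AddCommGrpCat.{u + 1}).map_injective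
  ext U s
  change t.hom.app U s = 0
  by_contra hne
  have hs : (sectSupp F U.unop (t.hom.app U s)).Nonempty := by
    rw [Set.nonempty_iff_ne_empty]
    intro h
    exact hne ((sectSupp_eq_empty_iff F U.unop _).1 h)
  obtain ⟨u, hu⟩ := hs
  obtain ⟨i, z, hz⟩ := hg (U.unop.hom u)
  obtain ⟨v, hv1, hv2⟩ := Scheme.Pullback.exists_preimage_pullback (f := U.unop.hom) (g := g i) u z
    hz.symm
  have h1 : ((EtCoh.pullPushAdj (g i)).unit.app F).hom.app U (t.hom.app U s) = 0 := by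
    have h2 := congrArg (fun φ => φ.hom.app U s) (h i)
    exact h2
  have h2 : sectSupp ((EtCoh.pull (g i)).obj F) ((EtCoh.bc (g i)).obj U.unop)
      (((EtCoh.pullPushAdj (g i)).unit.app F).hom.app (op U.unop) (t.hom.app U s)) = ∅ :=
    (sectSupp_eq_empty_iff _ _ _).2 h1
  rw [sectSupp_unit (g i) F U.unop] at h2
  have h3 : (v : ((EtCoh.bc (g i)).obj U.unop).left) ∈
      ((pullback.fst U.unop.hom (g i) : ((EtCoh.bc (g i)).obj U.unop).left ⟶ U.unop.left) ⁻¹'
        sectSupp F U.unop (t.hom.app U s)) := by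
    change (pullback.fst U.unop.hom (g i)) v ∈ sectSupp F U.unop _
    rw [hv1]
    exact hu
  have h4 : v ∈ (∅ : Set ((EtCoh.bc (g i)).obj U.unop).left) := by
    rw [← h2]
    exact h3
  exact h4

/-- The canonical map `M_Y ⟶ g_* M_Z`. -/
noncomputable def μ {Y Z : Scheme.{u}} (g : Z ⟶ Y) (M : Type) [AddCommGroup M] :
    EtCoh.const Y M ⟶ (EtCoh.push g).obj (EtCoh.const Z M) :=
  (EtCoh.pullPushAdj g).unit.app (EtCoh.const Y M) ≫ (EtCoh.push g).map (EtCore.pullConst g M).hom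

theorem eq_zero_of_μ {Y : Scheme.{u}} {ι : Type*} (Z : ι → Scheme.{u}) (g : ∀ i, Z i ⟶ Y)
    (hg : ∀ y : Y, ∃ (i : ι) (z : Z i), g i z = y) (M : Type) [AddCommGroup M] {T : EtCoh.Ab Y}
    (t : T ⟶ EtCoh.const Y M) (h : ∀ i, t ≫ μ (g i) M = 0) : t = 0 := by
  refine eq_zero_of_unit Z g hg t fun i => ?_
  have h1 := h i
  rw [μ, ← Category.assoc] at h1
  rw [← cancel_mono ((EtCoh.push (g i)).map (EtCore.pullConst (g i) M).hom), h1, zero_comp]

/-- The canonical map `f_* M_Y ⟶ (f g)_* M_Z`. -/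
noncomputable def μ' {X Y Z : Scheme.{u}} (f : Y ⟶ X) (g : Z ⟶ Y) (M : Type) [AddCommGroup M] :
    (EtCoh.push f).obj (EtCoh.const Y M) ⟶ (EtCoh.push (g ≫ f)).obj (EtCoh.const Z M) :=
  (EtCoh.push f).map (μ g M) ≫ (EtCoh.pushComp f g).hom.app (EtCoh.const Z M)

theorem eq_zero_of_μ' {X Y : Scheme.{u}} (f : Y ⟶ X) {ι : Type*} (Z : ι → Scheme.{u})
    (g : ∀ i, Z i ⟶ Y) (hg : ∀ y : Y, ∃ (i : ι) (z : Z i), g i z = y) (M : Type) [AddCommGroup M]
    {T : EtCoh.Ab X} (t : T ⟶ (EtCoh.push f).obj (EtCoh.const Y M))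
    (h : ∀ i, t ≫ μ' f (g i) M = 0) : t = 0 := by
  obtain ⟨t', rfl⟩ := ((EtCoh.pullPushAdj f).homEquiv _ _).surjective t
  have h1 : t' = 0 := by
    refine eq_zero_of_μ Z g hg M t' fun i => ?_
    have h2 := h i
    rw [μ', ← Category.assoc] at h2
    have h3 : ((EtCoh.pullPushAdj f).homEquiv _ _) t' ≫ (EtCoh.push f).map (μ (g i) M) = 0 := by
      rw [← cancel_mono ((EtCoh.pushComp f (g i)).hom.app (EtCoh.const (Z i) M)), h2, zero_comp]
    rw [← Adjunction.homEquiv_naturality_right] at h3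
    apply ((EtCoh.pullPushAdj f).homEquiv _ _).injective
    rw [h3]
    simp [Adjunction.homEquiv_unit]
  rw [h1]
  simp [Adjunction.homEquiv_unit]

/-- An integral scheme locally of finite type and of dimension zero over an algebraically closed
field is a rational point. -/
theorem isIso_of_dim_zero (k : Type u) [Field k] [IsAlgClosed k] {Z : Scheme.{u}} [IsIntegral Z]
    (f : Z ⟶ Spec (CommRingCat.of k)) [LocallyOfFiniteType f] (h : topologicalKrullDim Z ≤ 0) :
    IsIso f := by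
  have h1 : Subsingleton Z := Groth.Agent.Etcore.RootCover.subsingleton_of_dim_zero h
  let := (isField_of_isIntegral_of_subsingleton Z).toField
  let ψ : k →+* Γ(Z, ⊤) := f.appTop.hom.comp (Scheme.ΓSpecIso (CommRingCat.of k)).inv.hom
  have hft : f.appTop.hom.FiniteType := by
    have := (HasRingHomProperty.iff_of_isAffine (P := @LocallyOfFiniteType) (f := f)).1 inferInstance
    exact this
  have hψ : ψ.FiniteType := hft.comp (RingHom.FiniteType.of_surjective _
    (ConcreteCategory.bijective_of_isIso (Scheme.ΓSpecIso (CommRingCat.of k)).inv).2)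
  let := ψ.toAlgebra
  have hft' : Algebra.FiniteType k Γ(Z, ⊤) := hψ
  have hfin : Module.Finite k Γ(Z, ⊤) := finite_of_finite_type_of_isJacobsonRing k Γ(Z, ⊤)
  have hbij : Function.Bijective ψ := IsAlgClosed.algebraMap_bijective_of_isIntegral (k := k)
  have h2 : IsIso f.appTop := by
    rw [ConcreteCategory.isIso_iff_bijective]
    have h3 : Function.Bijective (f.appTop.hom ∘ (Scheme.ΓSpecIso (CommRingCat.of k)).inv.hom) := hbij
    exact (Function.Bijective.of_comp_iff _ (ConcreteCategory.bijective_of_isIso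
      (Scheme.ΓSpecIso (CommRingCat.of k)).inv)).1 h3
  exact (HasAffineProperty.iff_of_isAffine (P := MorphismProperty.isomorphisms Scheme)
    (f := f)).2 ⟨inferInstance, h2⟩

open Groth.Agent.Sga4B.GoodSheaf in
/-- A constructible sheaf killed by `l ^ ν` on a scheme of finite type and dimension `≤ 1` over an
algebraically closed field embeds into a finite sum of `p_* (ℤ/l^e)`, where the `p` are finite
morphisms from smooth integral schemes which are one-dimensional or rational points. -/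
theorem exists_curve_embedding (k : Type u) [Field k] [IsAlgClosed k] {X : Scheme.{u}}
    (s : X ⟶ Spec (CommRingCat.of k)) [LocallyOfFiniteType s] [CompactSpace X]
    [QuasiSeparatedSpace X] (hdim : topologicalKrullDim X ≤ 1)
    (F : EtCoh.Ab X) (hF : EtPBC.IsConstructible F) (l : ℕ) (hl : l.Prime) (ν : ℕ)
    (hFl : l ^ ν • 𝟙 F = 0) :
    ∃ (K : Type) (_ : Fintype K) (C : K → Scheme.{u}) (p : ∀ k, C k ⟶ X)
      (_ : ∀ k, IsFinite (p k)) (q e : K → ℕ) (_ : ∀ k, q k = l)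
      (j : F ⟶ ⨁ fun k => (EtCoh.push (p k)).obj (EtCoh.const (C k) (ZMod (q k ^ e k)))),
      (∀ k, IsIntegral (C k) ∧ Smooth (p k ≫ s) ∧
        (topologicalKrullDim (C k) = 1 ∨ IsIso (p k ≫ s))) ∧
      Mono j ∧ ∃ N : ℕ, l ^ N •
        𝟙 (⨁ fun k => (EtCoh.push (p k)).obj (EtCoh.const (C k) (ZMod (q k ^ e k)))) = 0 := by
  classical
  obtain ⟨K, _, Y, f, hf, q, e, hq, j, hj, -⟩ := exists_good_embedding X F hF l hl ν hFl
  have hY : ∀ k, topologicalKrullDim (Y k) ≤ 1 := fun k =>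
    (Groth.Agent.EtpbcA.CharPDim.dim_le_of_isIntegralHom (f k)).trans hdim
  have hYc : ∀ k, CompactSpace (Y k) := fun k => QuasiCompact.compactSpace_of_compactSpace (f k)
  choose n Z g hg hsurj hZ using fun κ =>
    Groth.Agent.Etcore.CurveNorm621.exists_cover k (f κ ≫ s) (hY κ)
  let K' : Type := Σ κ : K, Fin (n κ)
  let C : K' → Scheme.{u} := fun κ => Z κ.1 κ.2
  let p : ∀ κ : K', C κ ⟶ X := fun κ => g κ.1 κ.2 ≫ f κ.1
  let G : K' → EtCoh.Ab X := fun κ =>
    (EtCoh.push (p κ)).obj (EtCoh.const (C κ) (ZMod (q κ.1 ^ e κ.1)))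
  have hG : ∀ κ : K', (l ^ e κ.1) • 𝟙 (G κ) = 0 := fun κ => by
    rw [← hq κ.1]
    exact nsmul_push _ _ _ (nsmul_constMap _ _ (fun x => by
      rw [nsmul_eq_mul, ZMod.natCast_self, zero_mul]))
  refine ⟨K', inferInstance, C, p, fun κ => ?_, fun κ => q κ.1, fun κ => e κ.1, fun κ => hq κ.1,
    biproduct.lift (fun κ => j ≫ biproduct.π _ κ.1 ≫ μ' (f κ.1) (g κ.1 κ.2) _), ?_, ?_, ?_⟩
  · have := hg κ.1 κ.2
    have := hf κ.1
    infer_instance
  · intro κ
    obtain ⟨h1, h2, h3⟩ := hZ κ.1 κ.2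
    have h2' : Smooth (p κ ≫ s) := by
      rw [Category.assoc]
      exact h2
    refine ⟨h1, h2', ?_⟩
    rcases Groth.Agent.Etcore.CurveGeo164.eq_zero_or_one h3 with h4 | h4
    · right
      exact isIso_of_dim_zero k _ h4.le
    · exact Or.inl h4
  · refine Preadditive.mono_of_cancel_zero _ fun {T} t ht => ?_
    have h1 : ∀ κ : K', (t ≫ j ≫ biproduct.π _ κ.1) ≫ μ' (f κ.1) (g κ.1 κ.2) _ = 0 := fun κ => by
      have h2 := congrArg (fun φ => φ ≫ biproduct.π _ κ) ht
      simp only [Category.assoc, biproduct.lift_π, zero_comp] at h2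
      simpa only [Category.assoc] using h2
    have h2 : ∀ κ : K, t ≫ j ≫ biproduct.π _ κ = 0 := fun κ =>
      eq_zero_of_μ' (f κ) (Z κ) (g κ) (hsurj κ) _ _ fun i => h1 ⟨κ, i⟩
    have h3 : t ≫ j = 0 := by
      apply biproduct.hom_ext
      intro κ
      rw [Category.assoc, h2 κ, zero_comp]
    rw [← cancel_mono j, h3, zero_comp]
  · refine ⟨∑ κ : K', e κ.1, ?_⟩
    apply biproduct.hom_ext
    intro κ
    rw [Preadditive.nsmul_comp, Category.id_comp, zero_comp,
      ← Category.comp_id (biproduct.π _ κ), ← Preadditive.comp_nsmul]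
    have h1 : e κ.1 ≤ ∑ κ : K', e κ.1 :=
      Finset.single_le_sum (f := fun κ : K' => e κ.1) (fun _ _ => Nat.zero_le _) (Finset.mem_univ κ)
    rw [← Nat.sub_add_cancel h1, pow_add, mul_smul]
    change _ ≫ (l ^ (_ - _) • (l ^ e κ.1) • 𝟙 (G κ)) = 0
    rw [hG κ, smul_zero, comp_zero]

end Groth.Agent.An.H4.CurveEmbed
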