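import Groth.Agent.An.H4.CurveEmbed
import Groth.Prelude.Def_AnPts
import Mathlib.AlgebraicGeometry.Morphisms.Proper
import Mathlib.Analysis.Complex.Polynomial.Basic

/-!
# `CurveEmbed` for proper schemes of dimension `≤ 1` over `ℂ`
-/

set_option autoImplicit false

open CategoryTheory CategoryTheory.Limits AlgebraicGeometry Opposite TopologicalSpace

namespace Groth.Agent.An.H4.CurveEmbedSC

/-- Let `X` be proper over `ℂ` of dimension `≤ 1`.  A constructible sheaf on `X` killed by `l ^ ν`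
embeds into a finite sum of sheaves `p_* (ℤ/l^e)` where each `p : C → X` is finite and `C` is integral,
proper and smooth over `ℂ`, and either of Krull dimension one or isomorphic to `Spec ℂ`. -/
theorem exists_curve_embedding (X : Scheme.{0}) [X.Over _root_.An.SC] [IsProper (X ↘ _root_.An.SC)]
    (hdim : topologicalKrullDim X ≤ 1) (F : EtCoh.Ab X) (hF : EtPBC.IsConstructible F) (l : ℕ)
    (hl : l.Prime) (ν : ℕ) (hFl : l ^ ν • 𝟙 F = 0) :
    ∃ (K : Type) (_ : Fintype K) (C : K → Scheme.{0}) (p : ∀ k, C k ⟶ X)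
      (_ : ∀ k, IsFinite (p k)) (q e : K → ℕ) (_ : ∀ k, q k = l)
      (j : F ⟶ ⨁ fun k => (EtCoh.push (p k)).obj (EtCoh.const (C k) (ZMod (q k ^ e k)))),
      (∀ k, IsIntegral (C k) ∧ IsProper (p k ≫ (X ↘ _root_.An.SC)) ∧
        Smooth (p k ≫ (X ↘ _root_.An.SC)) ∧
        (topologicalKrullDim (C k) = 1 ∨ IsIso (p k ≫ (X ↘ _root_.An.SC)))) ∧
      Mono j ∧ ∃ N : ℕ, l ^ N •
        𝟙 (⨁ fun k => (EtCoh.push (p k)).obj (EtCoh.const (C k) (ZMod (q k ^ e k)))) = 0 := by
  have hc : CompactSpace X := QuasiCompact.compactSpace_of_compactSpace (X ↘ _root_.An.SC)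
  have hs : QuasiSeparatedSpace X :=
    (quasiSeparated_iff_quasiSeparatedSpace (X ↘ _root_.An.SC)).1 inferInstance
  obtain ⟨K, hK, C, p, hp, q, e, hq, j, h1, h2, h3⟩ :=
    CurveEmbed.exists_curve_embedding ℂ (X ↘ _root_.An.SC) hdim F hF l hl ν hFl
  refine ⟨K, hK, C, p, hp, q, e, hq, j, fun k => ?_, h2, h3⟩
  obtain ⟨h4, h5, h6⟩ := h1 k
  have := hp k
  exact ⟨h4, inferInstance, h5, h6⟩

end Groth.Agent.An.H4.CurveEmbedSC
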