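import Groth.Agent.An.H537.BoxVan
import Mathlib.Topology.Sets.Opens
import Mathlib.Topology.Constructions
import Mathlib.Order.Zorn

/-!
# Vanishing of cohomology on `V × box` for sheaves whose sections extend

`Z : Opens (N × (n → ℝ)) ⥤ A` a cosheaf, `F : A` such that sections over `V' × B'` extend to `V × B` for
`V' ≤ V` opens of `N` and `B' ≤ B` boxes (`Ext Z F`). Then `H^q(V × B, F) = 0` for `q > 0`
(`eq_zero_pbox`), and `H^q(V × ℝ^n, F) = 0` (`eq_zero_ptop`).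
-/

set_option autoImplicit false
universe w v u t

open CategoryTheory Category Limits Abelian TopologicalSpace Set Function Filter Topology

noncomputable section

namespace Groth.Agent.An.H4.HIBox

open Groth.Agent.An.H537 Groth.Agent.An.H537.Gen Groth.Agent.An.H537.Cosheaf
  Groth.Agent.An.H537.Box Groth.Agent.An.H537.BoxVan

variable {N : Type} [TopologicalSpace N] {n : Type} [Fintype n]

/-- The open `V × box` of `N × ℝ^n`. -/
def pbox (V : Opens N) (a b : n → ℝ) : Opens (N × (n → ℝ)) :=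
  ⟨{x | x.1 ∈ V ∧ x.2 ∈ obox a b},
    (V.isOpen.preimage continuous_fst).inter ((obox a b).isOpen.preimage continuous_snd)⟩

theorem mem_pbox {V : Opens N} {a b : n → ℝ} {x : N × (n → ℝ)} :
    x ∈ pbox V a b ↔ x.1 ∈ V ∧ x.2 ∈ obox a b := Iff.rfl

theorem pbox_mono {V V' : Opens N} (hV : V' ≤ V) {a b a' b' : n → ℝ} (ha : a ≤ a') (hb : b' ≤ b) :
    pbox V' a' b' ≤ pbox V a b := fun _ hx => ⟨hV hx.1, obox_mono ha hb hx.2⟩

theorem pbox_inf (V V' : Opens N) (a b : n → ℝ) : pbox V a b ⊓ pbox V' a b = pbox (V ⊓ V') a b := by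
  ext x
  change (x ∈ pbox V a b ∧ x ∈ pbox V' a b) ↔ x ∈ pbox (V ⊓ V') a b
  rw [mem_pbox, mem_pbox, mem_pbox]
  change _ ↔ (x.1 ∈ V ∧ x.1 ∈ V') ∧ _
  tauto

section Split

variable [DecidableEq n]

theorem pbox_sup {V : Opens N} {a b : n → ℝ} {i : n} {c d : ℝ} (hc : a i < c) (hcd : c < d)
    (hd : d < b i) : pbox V a (update b i d) ⊔ pbox V (update a i c) b = pbox V a b := by
  ext x
  rw [Opens.coe_sup, mem_union]
  change (x ∈ pbox V a (update b i d) ∨ x ∈ pbox V (update a i c) b) ↔ x ∈ pbox V a b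
  rw [mem_pbox, mem_pbox, mem_pbox, ← obox_sup (a := a) (b := b) hc hcd hd, ← and_or_left]
  rfl

theorem pbox_inf' {V : Opens N} {a b : n → ℝ} {i : n} {c d : ℝ} (hc : a i < c) (hd : d < b i) :
    pbox V a (update b i d) ⊓ pbox V (update a i c) b = pbox V (update a i c) (update b i d) := by
  ext x
  rw [Opens.coe_inf, mem_inter_iff]
  change (x ∈ pbox V a (update b i d) ∧ x ∈ pbox V (update a i c) b) ↔
    x ∈ pbox V (update a i c) (update b i d)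
  rw [mem_pbox, mem_pbox, mem_pbox, ← obox_inf (a := a) (b := b) hc hd]
  change _ ↔ _ ∧ (x.2 ∈ obox a (update b i d) ∧ x.2 ∈ obox (update a i c) b)
  tauto

end Split

variable {A : Type u} [Category.{v} A]

/-- Sections over `V' × B'` extend to `V × B`. -/
def Extends (Z : Opens (N × (n → ℝ)) ⥤ A) (F : A) : Prop :=
  ∀ (V V' : Opens N) (hV : V' ≤ V) (a b a' b' : n → ℝ) (ha : a ≤ a') (hb : b' ≤ b)
    (_ : ∀ i, a' i < b' i), Surjective (fun f : Z.obj (pbox V a b) ⟶ F => ι Z (pbox_mono hV ha hb) ≫ f)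

variable [Abelian A] {Z : Opens (N × (n → ℝ)) ⥤ A} (hZ : IsCosheaf Z)
include hZ

section Lift

variable [DecidableEq n] {S : ShortComplex A} (hS : S.ShortExact) (hF : Extends Z S.X₁)
  {V : Opens N} {a b : n → ℝ} (s : Z.obj (pbox V a b) ⟶ S.X₃)
include hS hF

/-- Lifts near a point of `N` over compact boxes. -/
theorem exists_lift_near (v : N) (hv : v ∈ V) {α β : n → ℝ} (hα : ∀ i, a i < α i)
    (hβ : ∀ i, β i < b i) (hαβ : ∀ i, α i < β i) :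
    ∃ (V₁ : Opens N) (h : V₁ ≤ V), v ∈ V₁ ∧ ∃ t : Z.obj (pbox V₁ α β) ⟶ S.X₂,
      t ≫ S.g = ι Z (pbox_mono h (fun i => (hα i).le) (fun i => (hβ i).le)) ≫ s := by
  have hepi := hS.epi_g
  obtain ⟨a', b', ha, hb, V₁, h₁, hv₁, H⟩ := BoxInd.box_induction
    (fun a₁ b₁ => ∃ (V₁ : Opens N) (h : V₁ ≤ V), v ∈ V₁ ∧ ∀ (a₂ b₂ : n → ℝ) (h₁ : a ≤ a₂)
      (h₂ : b₂ ≤ b) (_ : a₁ ≤ a₂) (_ : b₂ ≤ b₁) (_ : ∀ i, a₂ i < b₂ i),
        ∃ t : Z.obj (pbox V₁ a₂ b₂) ⟶ S.X₂, t ≫ S.g = ι Z (pbox_mono h h₁ h₂) ≫ s)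
    (by
      rintro a₁ b₁ a₁' b₁' ⟨V₁, h, hv₁, H⟩ ha hb
      exact ⟨V₁, h, hv₁, fun a₂ b₂ h₁ h₂ h₃ h₄ h₅ => H a₂ b₂ h₁ h₂ (ha.trans h₃) (h₄.trans hb) h₅⟩)
    (by
      rintro a₁ b₁ i c d hc hcd hd ⟨V₁, k₁, hv₁, H₁⟩ ⟨V₂, k₂, hv₂, H₂⟩
      refine ⟨V₁ ⊓ V₂, inf_le_left.trans k₁, ⟨hv₁, hv₂⟩, ?_⟩
      intro a₂ b₂ h₁ h₂ h₃ h₄ hab
      -- restrict to the smaller neighbourhood
      have res₁ : ∀ (a₃ b₃ : n → ℝ) (l₁ : a ≤ a₃) (l₂ : b₃ ≤ b) (_ : a₁ ≤ a₃)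
          (_ : b₃ ≤ update b₁ i d) (_ : ∀ i, a₃ i < b₃ i),
          ∃ t : Z.obj (pbox (V₁ ⊓ V₂) a₃ b₃) ⟶ S.X₂,
            t ≫ S.g = ι Z (pbox_mono (inf_le_left.trans k₁) l₁ l₂) ≫ s := by
        intro a₃ b₃ l₁ l₂ l₃ l₄ l₅
        obtain ⟨t, ht⟩ := H₁ a₃ b₃ l₁ l₂ l₃ l₄ l₅
        refine ⟨ι Z (pbox_mono inf_le_left le_rfl le_rfl) ≫ t, ?_⟩
        rw [assoc, ht, ← assoc, ι_comp]
      have res₂ : ∀ (a₃ b₃ : n → ℝ) (l₁ : a ≤ a₃) (l₂ : b₃ ≤ b) (_ : update a₁ i c ≤ a₃)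
          (_ : b₃ ≤ b₁) (_ : ∀ i, a₃ i < b₃ i),
          ∃ t : Z.obj (pbox (V₁ ⊓ V₂) a₃ b₃) ⟶ S.X₂,
            t ≫ S.g = ι Z (pbox_mono (inf_le_left.trans k₁) l₁ l₂) ≫ s := by
        intro a₃ b₃ l₁ l₂ l₃ l₄ l₅
        obtain ⟨t, ht⟩ := H₂ a₃ b₃ l₁ l₂ l₃ l₄ l₅
        refine ⟨ι Z (pbox_mono inf_le_right le_rfl le_rfl) ≫ t, ?_⟩
        rw [assoc, ht, ← assoc, ι_comp]
      rcases le_or_gt (b₂ i) d with hd' | hd'
      · exact res₁ a₂ b₂ h₁ h₂ h₃ (le_update_iff.2 ⟨hd', fun j _ => h₄ j⟩) hab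
      rcases le_or_gt c (a₂ i) with hc' | hc'
      · exact res₂ a₂ b₂ h₁ h₂ (update_le_iff.2 ⟨hc', fun j _ => h₃ j⟩) h₄ hab
      have e₁ : update b₂ i d ≤ b₂ := update_le_iff.2 ⟨hd'.le, fun _ _ => le_rfl⟩
      have e₂ : a₂ ≤ update a₂ i c := le_update_iff.2 ⟨hc'.le, fun _ _ => le_rfl⟩
      obtain ⟨t₁, ht₁⟩ := res₁ a₂ (update b₂ i d) h₁ (e₁.trans h₂) h₃
        (update_le_update_iff.2 ⟨le_rfl, fun j _ => h₄ j⟩) (fun j => by
          by_cases hij : j = i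
          · subst hij
            simpa using hc'.trans hcd
          · simpa [hij] using hab j)
      obtain ⟨t₂, ht₂⟩ := res₂ (update a₂ i c) b₂ (h₁.trans e₂) h₂
        (update_le_update_iff.2 ⟨le_rfl, fun j _ => h₃ j⟩) h₄ (fun j => by
          by_cases hij : j = i
          · subst hij
            simpa using hcd.trans hd'
          · simpa [hij] using hab j)
      -- the difference on the intersection
      have hmono := hS.mono_f
      have hd₁ : (ι Z (pbox_mono le_rfl e₂ le_rfl) ≫ t₁ - ι Z (pbox_mono le_rfl le_rfl e₁) ≫ t₂ :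
          Z.obj (pbox (V₁ ⊓ V₂) (update a₂ i c) (update b₂ i d)) ⟶ S.X₂) ≫ S.g = 0 := by
        rw [Preadditive.sub_comp, assoc, assoc, ht₁, ht₂, ← assoc, ← assoc, ι_comp, ι_comp, sub_self]
      obtain ⟨φ, hφ⟩ := hF (V₁ ⊓ V₂) (V₁ ⊓ V₂) le_rfl a₂ (update b₂ i d) (update a₂ i c)
        (update b₂ i d) e₂ le_rfl (fun j => by
            by_cases hij : j = i
            · subst hij
              simpa using hcd
            · simpa [hij] using hab j) (hS.exact.lift _ hd₁)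
      dsimp only at hφ
      have hφ' : ι Z (pbox_mono le_rfl e₂ le_rfl) ≫ φ ≫ S.f =
          ι Z (pbox_mono le_rfl e₂ le_rfl) ≫ t₁ - ι Z (pbox_mono le_rfl le_rfl e₁) ≫ t₂ := by
        rw [← assoc, hφ, hS.exact.lift_f]
      have key : ∀ (U W : Opens (N × (n → ℝ)))
          (_ : pbox (V₁ ⊓ V₂) a₂ (update b₂ i d) ⊔ pbox (V₁ ⊓ V₂) (update a₂ i c) b₂ = U)
          (_ : pbox (V₁ ⊓ V₂) a₂ (update b₂ i d) ⊓ pbox (V₁ ⊓ V₂) (update a₂ i c) b₂ = W)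
          (hU : U ≤ pbox V a b) (l₁ : W ≤ pbox (V₁ ⊓ V₂) a₂ (update b₂ i d))
          (l₂ : W ≤ pbox (V₁ ⊓ V₂) (update a₂ i c) b₂)
          (_ : ι Z l₁ ≫ (t₁ - φ ≫ S.f) = ι Z l₂ ≫ t₂),
          ∃ t : Z.obj U ⟶ S.X₂, t ≫ S.g = ι Z hU ≫ s := by
        rintro U W rfl rfl hU l₁ l₂ h
        obtain ⟨t, k₁, k₂⟩ := hZ.glue₂ (t₁ - φ ≫ S.f) t₂ h
        refine ⟨t, hZ.hom_ext₂ ?_ ?_⟩
        · rw [← assoc, k₁, Preadditive.sub_comp, assoc, S.zero, comp_zero, sub_zero, ht₁, ← assoc,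
            ι_comp]
        · rw [← assoc, k₂, ht₂, ← assoc, ι_comp]
      refine key _ _ (pbox_sup hc' hcd hd') (pbox_inf' hc' hd') _
        (pbox_mono le_rfl e₂ le_rfl) (pbox_mono le_rfl le_rfl e₁) ?_
      rw [Preadditive.comp_sub, hφ']
      abel)
    (fun i => (hαβ i).le) (by
      intro y hy hy'
      have hyab : y ∈ obox a b := fun i => ⟨(hα i).trans_le (hy i), (hy' i).trans_lt (hβ i)⟩
      obtain ⟨W, hW, hyW, t, ht⟩ := hZ.lift S.g s (v, y) ⟨hv, hyab⟩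
      obtain ⟨U₁, hU₁, U₂, hU₂, hU⟩ := mem_nhds_prod_iff.1 (W.isOpen.mem_nhds hyW)
      obtain ⟨V₁, hV₁, hoV₁, hvV₁⟩ := mem_nhds_iff.1 hU₁
      obtain ⟨ε, hε, hball⟩ := Metric.mem_nhds_iff.1 hU₂
      refine ⟨fun i => y i - ε, fun i => y i + ε, fun i => by linarith, fun i => by linarith,
        ⟨V₁, hoV₁⟩ ⊓ V, inf_le_right, ⟨hvV₁, hv⟩, ?_⟩
      intro a₂ b₂ h₁ h₂ h₃ h₄ hab
      have hle : pbox (⟨V₁, hoV₁⟩ ⊓ V) a₂ b₂ ≤ W := by
        rintro z ⟨hz1, hz2⟩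
        refine hU ⟨hV₁ hz1.1, hball ?_⟩
        rw [Metric.mem_ball, dist_pi_lt_iff hε]
        intro i
        rw [Real.dist_eq, abs_lt]
        have h5 := hz2 i
        have h6 := h₃ i
        have h7 := h₄ i
        dsimp only at h6 h7
        constructor <;> linarith
      refine ⟨ι Z hle ≫ t, ?_⟩
      rw [assoc, ht, ← assoc, ι_comp])
  exact ⟨V₁, h₁, hv₁, H α β (fun i => (hα i).le) (fun i => (hβ i).le) (fun i => (ha i).le)
    (fun i => (hb i).le) hαβ⟩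

omit hZ hS hF [DecidableEq n] in
theorem pbox_iSup {I : Type} (W : I → Opens N) (α β : n → ℝ) :
    pbox (⨆ i, W i) α β ≤ ⨆ i, pbox (W i) α β := by
  rintro x ⟨h1, h2⟩
  obtain ⟨i, hi⟩ := Opens.mem_iSup.1 h1
  exact Opens.mem_iSup.2 ⟨i, hi, h2⟩

omit hZ hS hF [DecidableEq n] in
theorem pbox_sup_left (V V' : Opens N) (a b : n → ℝ) : pbox V a b ⊔ pbox V' a b = pbox (V ⊔ V') a b := by
  ext x
  rw [Opens.coe_sup, mem_union]
  change (x ∈ pbox V a b ∨ x ∈ pbox V' a b) ↔ x ∈ pbox (V ⊔ V') a b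
  rw [mem_pbox, mem_pbox, mem_pbox, ← or_and_right]
  rfl

variable {s} in
omit hZ hS hF [DecidableEq n] [Abelian A] in
/-- A lift of a section over `W × box`. -/
structure Lft [Abelian A] {S : ShortComplex A} {V : Opens N} {a b : n → ℝ}
    (s : Z.obj (pbox V a b) ⟶ S.X₃) {α β : n → ℝ} (hα : a ≤ α) (hβ : β ≤ b) where
  /-- the open of `N` -/
  W : Opens N
  le : W ≤ V
  /-- the lift -/
  t : Z.obj (pbox W α β) ⟶ S.X₂
  ht : t ≫ S.g = ι Z (pbox_mono le hα hβ) ≫ s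

omit hZ hS hF [DecidableEq n] in
variable {s} in
/-- Extension of lifts. -/
def Lft.Le {α β : n → ℝ} {hα : a ≤ α} {hβ : β ≤ b} (x y : Lft s hα hβ) : Prop :=
  ∃ h : x.W ≤ y.W, ι Z (pbox_mono h le_rfl le_rfl) ≫ y.t = x.t

/-- Lifts over compact boxes. -/
theorem exists_lift_compact {α β : n → ℝ} (hα : ∀ i, a i < α i)
    (hβ : ∀ i, β i < b i) (hαβ : ∀ i, α i < β i) :
    ∃ t : Z.obj (pbox V α β) ⟶ S.X₂,
      t ≫ S.g = ι Z (pbox_mono le_rfl (fun i => (hα i).le) (fun i => (hβ i).le)) ≫ s := by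
  have hα' : a ≤ α := fun i => (hα i).le
  have hβ' : β ≤ b := fun i => (hβ i).le
  obtain ⟨m, hm⟩ := exists_maximal_of_chains_bounded (r := Lft.Le (s := s) (hα := hα') (hβ := hβ'))
    (by
      intro c hc
      choose x hx hxW using (fun i : {W : Opens N // ∃ y ∈ c, y.W = W} => i.2)
      have htot : ∀ y ∈ c, ∀ z ∈ c, Lft.Le y z ∨ Lft.Le z y := by
        intro y hy z hz
        rcases eq_or_ne y z with rfl | hne
        · left
          refine ⟨le_rfl, ?_⟩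
          rw [ι_refl, Category.id_comp]
        · exact hc hy hz hne
      obtain ⟨f, hf⟩ := hZ.glue (fun i => pbox (x i).W α β) (pbox (⨆ i, (x i).W) α β)
        (fun i => pbox_mono (le_iSup (fun i => (x i).W) i) le_rfl le_rfl)
        (pbox_iSup (fun i => (x i).W) α β) (fun i => (x i).t) (by
          intro i j
          rcases htot _ (hx i) _ (hx j) with ⟨h, h'⟩ | ⟨h, h'⟩
          · rw [← h', ← assoc, ι_comp]
          · rw [← h', ← assoc, ι_comp])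
      refine ⟨⟨⨆ i, (x i).W, iSup_le fun i => (x i).le, f, ?_⟩, ?_⟩
      · refine hZ.hom_ext (fun i => pbox (x i).W α β) _
          (fun i => pbox_mono (le_iSup (fun i => (x i).W) i) le_rfl le_rfl)
          (pbox_iSup (fun i => (x i).W) α β) _ _ (fun i => ?_)
        rw [← assoc, hf i, (x i).ht, ← assoc, ι_comp]
      · intro y hy
        let i : {W : Opens N // ∃ y ∈ c, y.W = W} := ⟨y.W, y, hy, rfl⟩
        have hi : (x i).W = y.W := hxW i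
        have h1 : ι Z (pbox_mono hi.ge le_rfl le_rfl) ≫ (x i).t = y.t := by
          rcases htot _ hy _ (hx i) with ⟨h, h'⟩ | ⟨h, h'⟩
          · exact h'
          · rw [← h', ← assoc, ι_comp, ι_refl, Category.id_comp]
        refine ⟨hi.ge.trans (le_iSup (fun i => (x i).W) i), ?_⟩
        dsimp only
        rw [← h1, ← hf i, ← assoc, ι_comp])
    (by
      rintro x y z ⟨h1, h2⟩ ⟨h3, h4⟩
      refine ⟨h1.trans h3, ?_⟩
      rw [← h2, ← h4, ← assoc, ι_comp])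
  have hmV : m.W = V := by
    refine le_antisymm m.le fun v hv => ?_
    by_contra hvm
    obtain ⟨V₁, h₁, hv₁, t₁, ht₁⟩ := exists_lift_near hZ hS hF s v hv hα hβ hαβ
    have hmono := hS.mono_f
    have hd₁ : (ι Z (pbox_mono (inf_le_left : m.W ⊓ V₁ ≤ m.W) le_rfl le_rfl) ≫ m.t -
        ι Z (pbox_mono inf_le_right le_rfl le_rfl) ≫ t₁ :
        Z.obj (pbox (m.W ⊓ V₁) α β) ⟶ S.X₂) ≫ S.g = 0 := by
      rw [Preadditive.sub_comp, assoc, assoc, m.ht, ht₁, ← assoc, ← assoc, ι_comp, ι_comp, sub_self]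
    obtain ⟨φ, hφ⟩ := hF V₁ (m.W ⊓ V₁) inf_le_right α β α β le_rfl le_rfl hαβ
      (hS.exact.lift _ hd₁)
    dsimp only at hφ
    have hφ' : ι Z (pbox_mono inf_le_right le_rfl le_rfl) ≫ φ ≫ S.f =
        ι Z (pbox_mono (inf_le_left : m.W ⊓ V₁ ≤ m.W) le_rfl le_rfl) ≫ m.t -
        ι Z (pbox_mono inf_le_right le_rfl le_rfl) ≫ t₁ := by
      rw [← assoc, hφ, hS.exact.lift_f]
    have key : ∀ (U W : Opens (N × (n → ℝ))) (_ : pbox m.W α β ⊔ pbox V₁ α β = U)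
        (_ : pbox m.W α β ⊓ pbox V₁ α β = W) (hU : U ≤ pbox V a b) (l₁ : W ≤ pbox m.W α β)
        (l₂ : W ≤ pbox V₁ α β) (l₃ : pbox m.W α β ≤ U) (_ : ι Z l₁ ≫ m.t = ι Z l₂ ≫ (t₁ + φ ≫ S.f)),
        ∃ t : Z.obj U ⟶ S.X₂, t ≫ S.g = ι Z hU ≫ s ∧ ι Z l₃ ≫ t = m.t := by
      rintro U W rfl rfl hU l₁ l₂ l₃ h
      obtain ⟨t, k₁, k₂⟩ := hZ.glue₂ m.t (t₁ + φ ≫ S.f) h
      refine ⟨t, hZ.hom_ext₂ ?_ ?_, k₁⟩
      · rw [← assoc, k₁, m.ht, ← assoc, ι_comp]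
      · rw [← assoc, k₂, Preadditive.add_comp, assoc, S.zero, comp_zero, add_zero, ht₁, ← assoc,
          ι_comp]
    obtain ⟨t, ht, ht'⟩ := key _ _ (pbox_sup_left _ _ _ _) (pbox_inf _ _ _ _)
      (pbox_mono (sup_le m.le h₁) hα' hβ') (pbox_mono inf_le_left le_rfl le_rfl)
      (pbox_mono inf_le_right le_rfl le_rfl) (pbox_mono le_sup_left le_rfl le_rfl) (by
        rw [Preadditive.comp_add, hφ']
        abel)
    obtain ⟨h, -⟩ := hm ⟨m.W ⊔ V₁, sup_le m.le h₁, t, ht⟩ ⟨le_sup_left, ht'⟩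
    exact hvm (h (Or.inr hv₁))
  have aux : ∀ (W : Opens N) (hW : W = V) (le : W ≤ V) (t : Z.obj (pbox W α β) ⟶ S.X₂)
      (_ : t ≫ S.g = ι Z (pbox_mono le hα' hβ') ≫ s),
      ∃ t : Z.obj (pbox V α β) ⟶ S.X₂, t ≫ S.g = ι Z (pbox_mono le_rfl hα' hβ') ≫ s := by
    rintro W rfl le t ht
    exact ⟨t, ht⟩
  exact aux m.W hmV m.le m.t m.ht

end Lift

section Vanish

variable [HasExt.{w} A] [EnoughInjectives A] [DecidableEq n]

omit [HasExt.{w} A] [EnoughInjectives A] [DecidableEq n] [Abelian A] hZ in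
/-- The exhausting boxes. -/
theorem exists_exhaust {V : Opens N} {a b : n → ℝ} (hab : ∀ i, a i < b i) :
    ∃ (α β : ℕ → n → ℝ), (∀ k i, a i < α k i) ∧ (∀ k i, β k i < b i) ∧ (∀ k i, α k i < β k i) ∧
      (∀ k, α (k + 1) ≤ α k) ∧ (∀ k, β k ≤ β (k + 1)) ∧
      pbox V a b ≤ ⨆ k, pbox V (α k) (β k) := by
  let ε : ℕ → n → ℝ := fun k i => (b i - a i) / ((k : ℝ) + 3)
  have hεpos : ∀ k i, 0 < ε k i := fun k i => div_pos (sub_pos.2 (hab i)) (by positivity)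
  have hε : ∀ k i, ε (k + 1) i ≤ ε k i := by
    intro k i
    refine div_le_div_of_nonneg_left (sub_pos.2 (hab i)).le (by positivity) ?_
    push_cast
    linarith
  have hε2 : ∀ k i, 2 * ε k i < b i - a i := by
    intro k i
    have h1 : 0 < (k : ℝ) + 3 := by positivity
    have h2 : (k : ℝ) + 3 > 2 := by
      have := Nat.cast_nonneg (α := ℝ) k
      linarith
    change 2 * ((b i - a i) / ((k : ℝ) + 3)) < _
    rw [mul_div_assoc', div_lt_iff₀ h1]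
    nlinarith [sub_pos.2 (hab i)]
  refine ⟨fun k i => a i + ε k i, fun k i => b i - ε k i, fun k i => ?_, fun k i => ?_, fun k i => ?_,
    fun k i => ?_, fun k i => ?_, ?_⟩
  · linarith [hεpos k i]
  · linarith [hεpos k i]
  · linarith [hε2 k i]
  · linarith [hε k i]
  · linarith [hε k i]
  · rintro ⟨v, y⟩ ⟨hv, hy⟩
    have ht : ∀ i, Tendsto (fun k : ℕ => ε k i) atTop (𝓝 0) := fun i =>
      Tendsto.div_atTop tendsto_const_nhds
        (tendsto_atTop_add_const_right _ _ tendsto_natCast_atTop_atTop)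
    have h1 : ∀ᶠ k in atTop, ∀ i, ε k i < y i - a i ∧ ε k i < b i - y i := by
      rw [eventually_all]
      intro i
      exact ((ht i).eventually_lt_const (sub_pos.2 (hy i).1)).and
        ((ht i).eventually_lt_const (sub_pos.2 (hy i).2))
    obtain ⟨k, hk⟩ := h1.exists
    refine Opens.mem_iSup.2 ⟨k, hv, fun i => ?_⟩
    have := hk i
    constructor
    · linarith
    · linarith

/-- Degree one. -/
theorem eq_zero_one {F : A} (hF : Extends Z F) (V : Opens N) {a b : n → ℝ} (hab : ∀ i, a i < b i)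
    (x : H Z F (0 + 1) (pbox V a b)) : x = 0 := by
  obtain ⟨α, β, hα, hβ, hαβ, hα', hβ', hsup⟩ := exists_exhaust (V := V) hab
  refine eq_zero_of_exhaust' hZ 0 (fun k => pbox V (α k) (β k))
    (fun k => pbox_mono le_rfl (hα' k) (hβ' k)) (fun k y => ?_) hsup
    (fun k => pbox_mono le_rfl (fun i => (hα k i).le) (fun i => (hβ k i).le)) x (fun k => ?_)
  · obtain ⟨y, rfl⟩ := exists_mk₀ Z y
    obtain ⟨z, hz⟩ := hF V V le_rfl (α (k + 1)) (β (k + 1)) (α k) (β k) (hα' k) (hβ' k) (hαβ k) y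
    refine ⟨Ext.mk₀ z, ?_⟩
    rw [res_mk₀]
    exact congrArg Ext.mk₀ hz
  · obtain ⟨S, hS, hI, rfl⟩ := exists_injective F
    obtain ⟨z, rfl⟩ := exists_δ Z hS x (eq_zero_of_injective _ _ _)
    obtain ⟨s, rfl⟩ := exists_mk₀ Z z
    obtain ⟨t, ht⟩ := exists_lift_compact hZ hS hF s (hα k) (hβ k) (hαβ k)
    rw [res_δ, res_mk₀]
    change δ Z hS 0 _ (Ext.mk₀ (ι Z _ ≫ s)) = 0
    rw [← ht, ← map_mk₀, δ_map]

/-- The cokernel of an embedding in an injective. -/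
theorem extends_quotient {S : ShortComplex A} (hS : S.ShortExact) [Injective S.X₂]
    (hF : Extends Z S.X₁) : Extends Z S.X₃ := by
  intro V V' hV a b a' b' ha hb hab s
  have h0 : δ Z hS 0 _ (Ext.mk₀ s : H Z S.X₃ 0 (pbox V' a' b')) = 0 := eq_zero_one hZ hF V' hab _
  obtain ⟨t, ht⟩ := exists_map_of_δ Z hS _ h0
  obtain ⟨t, rfl⟩ := exists_mk₀ Z t
  rw [map_mk₀] at ht
  have ht' : t ≫ S.g = s := mk₀_inj Z ht
  have := hZ.mono (pbox_mono hV ha hb)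
  refine ⟨Injective.factorThru t (ι Z (pbox_mono hV ha hb)) ≫ S.g, ?_⟩
  dsimp only
  rw [← assoc, Injective.comp_factorThru, ht']

/-- `H^q(V × B, F) = 0` for `q > 0`. -/
theorem eq_zero_pbox (q : ℕ) {F : A} (hF : Extends Z F) (V : Opens N) {a b : n → ℝ}
    (hab : ∀ i, a i < b i) (x : H Z F (q + 1) (pbox V a b)) : x = 0 := by
  induction q generalizing F with
  | zero => exact eq_zero_one hZ hF V hab x
  | succ q ih =>
    obtain ⟨S, hS, hI, rfl⟩ := exists_injective F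
    obtain ⟨z, rfl⟩ := exists_δ Z hS x (eq_zero_of_injective _ _ _)
    rw [ih (extends_quotient hZ hS hF) z, map_zero]

omit [DecidableEq n] [Fintype n] in
/-- The open `V × ℝ^n`. -/
def ptop (V : Opens N) : Opens (N × (n → ℝ)) :=
  ⟨{x | x.1 ∈ V}, V.isOpen.preimage continuous_fst⟩

omit [HasExt.{w} A] [EnoughInjectives A] [DecidableEq n] [Abelian A] hZ in
theorem pbox_le_ptop (V : Opens N) (a b : n → ℝ) : pbox V a b ≤ ptop V := fun _ hx => hx.1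

/-- `H^q(V × ℝ^n, F) = 0` for `q > 0`. -/
theorem eq_zero_ptop (q : ℕ) {F : A} (hF : Extends Z F) (V : Opens N)
    (x : H Z F (q + 1) (ptop V)) : x = 0 := by
  have hlt : ∀ (k : ℕ) (i : n), (fun _ : n => -((k : ℝ) + 1)) i < (fun _ : n => (k : ℝ) + 1) i := by
    intro k i
    have := Nat.cast_nonneg (α := ℝ) k
    dsimp only
    linarith
  refine eq_zero_of_exhaust' hZ q (fun k => pbox V (fun _ => -((k : ℝ) + 1)) (fun _ => (k : ℝ) + 1))
    (fun k => pbox_mono le_rfl (cube_le₁ k) (cube_le₂ k)) (fun k => ?_) ?_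
    (fun k => pbox_le_ptop _ _ _) x (fun k => ?_)
  · intro y
    cases q with
    | zero =>
      obtain ⟨y, rfl⟩ := exists_mk₀ Z y
      obtain ⟨z, hz⟩ := hF V V le_rfl _ _ _ _ (cube_le₁ k) (cube_le₂ k) (hlt k) y
      refine ⟨Ext.mk₀ z, ?_⟩
      rw [res_mk₀]
      exact congrArg Ext.mk₀ hz
    | succ q =>
      exact ⟨0, by rw [map_zero, eq_zero_pbox hZ q hF V (hlt k) y]⟩
  · rintro ⟨v, y⟩ hv
    obtain ⟨k, hk⟩ := exists_mem_cube y
    exact Opens.mem_iSup.2 ⟨k, hv, hk⟩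
  · exact eq_zero_pbox hZ q hF V (hlt k) _

end Vanish

end Groth.Agent.An.H4.HIBox
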