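import Groth.Agent.An.H4.HISec
import Groth.Agent.An.H4.HIBox
import Groth.Agent.An.H537.ClOpens
import Groth.Agent.An.H891.ClSq

/-!
# Homotopy invariance for `p : T → N`, `T ≅ N × ℝ^n` over `N`, arbitrary `N` and arbitrary coefficients

`p : C(T, N)`, `e : T ≃ₜ N × (n → ℝ)` over `N`, `G : Cl.Ab N`.
* `isIso_unit` (in `HISec`): `G ⟶ p_* p^* G` is an isomorphism;
* `isZero_rightDerived` : `R^q p_* (p^* G) = 0` for `q > 0`;
* `exists_kill` : classes of `H^q(p^{-1}U, p^*G)`, `q > 0`, die locally on `U`.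
-/

set_option autoImplicit false
open CategoryTheory CategoryTheory.Limits Opposite TopologicalSpace Topology An Abelian

noncomputable section

namespace Groth.Agent.An.H4.HI

open Groth.Agent.An.H884.ClBC Groth.Agent.An.H890.ULiftSite Groth.Agent.Proet
  Groth.Agent.An.H537 Groth.Agent.An.H537.Gen Groth.Agent.An.H537.Cosheaf
  Groth.Agent.An.H537.SiteCosheaf Groth.Agent.An.H537.Box Groth.Agent.An.H537.ClOpens
  Groth.Agent.An.H4.HIBox Groth.Agent.An.H4.HISec Groth.Agent.An.H888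

section Homeo

universe t u v w

variable {T Y : Type} [TopologicalSpace T] [TopologicalSpace Y] (e : T ≃ₜ Y)

/-- Preimages of opens. -/
def eF : Opens Y ⥤ Opens T where
  obj W := ⟨e ⁻¹' W, W.isOpen.preimage e.continuous⟩
  map h := homOfLE (fun _ hx => h.le hx)

variable {C : Type u} [Category.{v} C] {Φ : Opens T ⥤ C} {J : GrothendieckTopology C}

theorem openLike_comp (hΦ : OpenLike Φ J) : OpenLike (eF e ⋙ Φ) J where
  mono h := hΦ.mono _
  cover {I} U V hi hV := hΦ.cover (fun i => (eF e).obj (U i)) ((eF e).obj V)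
    (fun i _ hx => hi i hx) (fun x hx => by
      obtain ⟨i, hi'⟩ := Opens.mem_iSup.1 (hV (show e x ∈ V from hx))
      exact Opens.mem_iSup.2 ⟨i, hi'⟩)
  inter {U₁ U₂ V} h₁ h₂ W g₁ g₂ hg :=
    hΦ.inter (U₁ := (eF e).obj U₁) (U₂ := (eF e).obj U₂) (V := (eF e).obj V)
      (fun _ hx => h₁ hx) (fun _ hx => h₂ hx) g₁ g₂ hg
  refine {U} S hS y hy := by
    obtain ⟨V', h, hyV, hSV⟩ := hΦ.refine (U := (eF e).obj U) S hS (e.symm y) (by
      change e (e.symm y) ∈ U
      rwa [e.apply_symm_apply])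
    let V : Opens Y := ⟨e.symm ⁻¹' V', V'.isOpen.preimage e.symm.continuous⟩
    have hle : (eF e).obj V ≤ V' := fun x hx => by
      have : e.symm (e x) ∈ V' := hx
      rwa [e.symm_apply_apply] at this
    have hVU : V ≤ U := fun z hz => by
      have : e (e.symm z) ∈ U := h hz
      rwa [e.apply_symm_apply] at this
    refine ⟨V, hVU, hyV, ?_⟩
    have h1 := S.downward_closed hSV (Φ.map (homOfLE hle))
    rw [← Φ.map_comp] at h1
    exact h1

end Homeo

section Small

variable (N : Type) [TopologicalSpace N]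

theorem openLike_opensToCl : OpenLike (opensToCl N) (Cl.topology N) := openLike (Cl.self N)

/-- Opens as free abelian sheaves on the classical site. -/
abbrev ZN : Opens N ⥤ Cl.Ab N := opensToCl N ⋙ ZU.zF.{1} (Cl.topology N)

theorem isCosheaf_ZN : IsCosheaf (ZN N) := (openLike_opensToCl N).isCosheaf

variable {N} in
/-- Sections of injective sheaves extend. -/
theorem exists_extend (G : Cl.Ab N) [Injective G] {V V' : Opens N} (h : V' ≤ V)
    (t' : G.obj.obj (op ((opensToCl N).obj V'))) :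
    ∃ t : G.obj.obj (op ((opensToCl N).obj V)),
      G.obj.map ((opensToCl N).map (homOfLE h)).op t = t' := by
  have h1 : Mono ((opensToCl N).map (homOfLE h)) := (openLike_opensToCl N).mono h
  have h2 : Mono ((ZU.zF.{1} (Cl.topology N)).map ((opensToCl N).map (homOfLE h))) :=
    mono_zF_map _
  let f' := (ZU.ev (Cl.topology N) ((opensToCl N).obj V') G).symm t'
  refine ⟨ZU.ev (Cl.topology N) ((opensToCl N).obj V) G (Injective.factorThru f'
    ((ZU.zF.{1} (Cl.topology N)).map ((opensToCl N).map (homOfLE h)))), ?_⟩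
  rw [← ZU.ev_map_comp, Injective.comp_factorThru, AddEquiv.apply_symm_apply]

end Small

section Main

variable {T N : Type} [TopologicalSpace T] [TopologicalSpace N] (p : C(T, N))

/-- `pbc` is compatible with restriction. -/
theorem pbc_map (G : Cl.Ab N) {W W' : Opens T} {V V' : Opens N} (hW : W' ≤ W) (hV : V' ≤ V)
    (h : ∀ t ∈ W, p t ∈ V) (h' : ∀ t ∈ W', p t ∈ V')
    (t : G.obj.obj (op ((opensToCl N).obj V))) :
    ((pullCl p).obj G).obj.map ((opensToCl T).map (homOfLE hW)).op (pbc p G W V h t) =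
      pbc p G W' V' h' (G.obj.map ((opensToCl N).map (homOfLE hV)).op t) := by
  have h2 : pbc p G W V h ≫ ((pullCl p).obj G).obj.map ((opensToCl T).map (homOfLE hW)).op =
      G.obj.map ((opensToCl N).map (homOfLE hV)).op ≫ pbc p G W' V' h' := by
    rw [pbc, pbc, Category.assoc, ← Functor.map_comp, ← Category.assoc, sg_map, Category.assoc,
      ← Functor.map_comp]
    rfl
  exact ConcreteCategory.congr_hom h2 t

variable {n : Type} [Fintype n] (e : T ≃ₜ N × (n → ℝ)) (he : ∀ t, (e t).1 = p t)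

/-- The cosheaf `W ↦ ℤ_{e⁻¹ W}`. -/
abbrev ZT : Opens (N × (n → ℝ)) ⥤ Cl.Ab T :=
  (eF e ⋙ opensToCl T) ⋙ ZU.zF.{1} (Cl.topology T)

omit [Fintype n] in
theorem isCosheaf_ZT : IsCosheaf (ZT e) := (openLike_comp e (openLike_opensToCl T)).isCosheaf

theorem isConnected_obox {a b : n → ℝ} (hab : ∀ i, a i < b i) :
    _root_.IsConnected (obox a b : Set (n → ℝ)) := by
  have h : (obox a b : Set (n → ℝ)) = Set.pi Set.univ (fun i => Set.Ioo (a i) (b i)) := by
    ext x
    simp [Set.mem_pi, mem_obox]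
  rw [h]
  refine ⟨⟨fun i => (a i + b i) / 2, fun i _ => ⟨?_, ?_⟩⟩, isPreconnected_univ_pi
    (fun i => isPreconnected_Ioo)⟩
  · linarith [hab i]
  · linarith [hab i]

include he

/-- Sections of the inverse image of an injective sheaf over boxes extend. -/
theorem extends_pull (G : Cl.Ab N) [Injective G] : Extends (ZT e) ((pullCl p).obj G) := by
  intro V V' hV a b a' b' ha hb hab s'
  have hW : ∀ (V : Opens N) (a b : n → ℝ), ∀ t ∈ (eF e).obj (pbox V a b), p t ∈ V := by
    intro V a b t ht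
    rw [← he]
    exact ht.1
  have hc := connOn p e he ((eF e).obj (pbox V' a' b')) V' (obox a' b') (isConnected_obox hab)
    (fun t => Iff.rfl)
  obtain ⟨t', ht'⟩ := (bijective_pbc p G ((eF e).obj (pbox V' a' b')) V' hc (hW V' a' b')).2
    (ZU.ev (Cl.topology T) _ _ s')
  obtain ⟨t, rfl⟩ := exists_extend G hV t'
  refine ⟨(ZU.ev (Cl.topology T) ((opensToCl T).obj ((eF e).obj (pbox V a b))) _).symm
    (pbc p G ((eF e).obj (pbox V a b)) V (hW V a b) t), ?_⟩
  apply (ZU.ev (Cl.topology T) ((opensToCl T).obj ((eF e).obj (pbox V' a' b'))) _).injective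
  rw [← ht']
  refine Eq.trans (ZU.ev_map_comp _ _) ?_
  refine Eq.trans (congrArg _ (AddEquiv.apply_symm_apply _ _)) ?_
  exact pbc_map p G (fun _ hx => pbox_mono hV ha hb hx) hV _ _ t

omit [Fintype n] in
theorem eF_ptop (V : Opens N) : (eF e).obj (ptop V) = pre p V := by
  ext t
  change (e t).1 ∈ V ↔ p t ∈ V
  rw [he]

/-- Classes on `p⁻¹V` with values in the inverse image of an injective sheaf vanish. -/
theorem eq_zero_of_injective_pull (G : Cl.Ab N) [Injective G] (V : Opens N) (q : ℕ)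
    (x : Ext ((ZU.zF.{1} (Cl.topology T)).obj ((clBC p).obj ((opensToCl N).obj V)))
      ((pullCl p).obj G) (q + 1)) : x = 0 := by
  classical
  let i : (opensToCl T).obj ((eF e).obj (ptop V)) ≅ (clBC p).obj ((opensToCl N).obj V) :=
    (opensToCl T).mapIso (eqToIso (eF_ptop p e he V)) ≪≫ kIso p V
  apply (ZU.extPrecompIso ((ZU.zF.{1} (Cl.topology T)).mapIso i) ((pullCl p).obj G) (q + 1)).injective
  rw [map_zero]
  exact eq_zero_ptop (isCosheaf_ZT e) q (extends_pull p e he G) V _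

/-- `V ↦ ℤ_{p⁻¹ V}`. -/
abbrev ZP : Opens N ⥤ Cl.Ab T := opensToCl N ⋙ clBC p ⋙ ZU.zF.{1} (Cl.topology T)

omit he in
/-- Lifting sections of the inverse image. -/
theorem lift_sec {G Q : Cl.Ab N} (g : G ⟶ Q) {A B : Cl N} (a : B ⟶ A)
    (s : (ZU.zF.{1} (Cl.topology T)).obj ((clBC p).obj A) ⟶ (pullCl p).obj Q)
    (t : Q.obj.obj (op A)) (ht : sg p Q A t = ZU.ev (Cl.topology T) ((clBC p).obj A) _ s)
    (τ : G.obj.obj (op B)) (hτ : g.hom.app (op B) τ = Q.obj.map a.op t) :
    (ZU.ev (Cl.topology T) ((clBC p).obj B) ((pullCl p).obj G)).symm (sg p G B τ) ≫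
      (pullCl p).map g = (ZU.zF.{1} (Cl.topology T)).map ((clBC p).map a) ≫ s := by
  apply (ZU.ev (Cl.topology T) ((clBC p).obj B) ((pullCl p).obj Q)).injective
  refine (ZU.ev_comp _ _).trans (Eq.trans ?_ (ZU.ev_map_comp _ _).symm)
  rw [AddEquiv.apply_symm_apply, ← ht]
  have h1 := ConcreteCategory.congr_hom (map_sg p g B) τ
  have h2 := ConcreteCategory.congr_hom (sg_map p Q a) t
  rw [ConcreteCategory.comp_apply, ConcreteCategory.comp_apply] at h1 h2
  rw [← h1, hτ, h2]

omit he in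
theorem kill_of {A : Type*} [Category* A] [Abelian A] [HasExt.{1} A] {Z : Opens N ⥤ A}
    {S : ShortComplex A} (hS : S.ShortExact) {q : ℕ} {V : Opens N} (x : H.{1} Z S.X₁ (q + 1) V)
    (hx : map Z S.f (q + 1) V x = 0) (v : N)
    (hy : ∀ y : H Z S.X₃ q V, ∃ (V' : Opens N) (h : V' ≤ V), v ∈ V' ∧
      ∃ z, map Z S.g q V' z = res Z S.X₃ q (homOfLE h) y) :
    ∃ (V' : Opens N) (h : V' ≤ V), v ∈ V' ∧ res Z S.X₁ (q + 1) (homOfLE h) x = 0 := by
  obtain ⟨y, rfl⟩ := exists_δ Z hS x hx
  obtain ⟨V', h, hv, z, hz⟩ := hy y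
  refine ⟨V', h, hv, ?_⟩
  rw [res_δ, ← hz, δ_map]

/-- Classes of positive degree of `p^* G` over `p⁻¹V` die locally on `V`. -/
theorem exists_kill (q : ℕ) (G : Cl.Ab N) (V : Opens N)
    (x : H (ZP p) ((pullCl p).obj G) (q + 1) V) (v : N) (hv : v ∈ V) :
    ∃ (V' : Opens N) (h : V' ≤ V), v ∈ V' ∧
      res (ZP p) ((pullCl p).obj G) (q + 1) (homOfLE h) x = 0 := by
  induction q generalizing G with
  | zero =>
    obtain ⟨S, hS, hI, rfl⟩ := exists_injective G
    have hS' : (S.map (pullCl p)).ShortExact := hS.map_of_exact (pullCl p)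
    refine kill_of (Z := ZP p) hS' x (eq_zero_of_injective_pull p e he S.X₂ V 0 _) v (fun y => ?_)
    obtain ⟨s, rfl⟩ := exists_mk₀ (ZP p) y
    -- the section of the quotient
    have hiso := isIso_unit p e he S.X₃
    have hbij : Function.Bijective (sg p S.X₃ ((opensToCl N).obj V)) := by
      have h1 : IsIso (((sheafToPresheaf _ _).map ((adjCl p).unit.app S.X₃)).app
        (op ((opensToCl N).obj V))) := inferInstance
      have h2 : IsIso (sg p S.X₃ ((opensToCl N).obj V)) := h1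
      exact (ConcreteCategory.isIso_iff_bijective _).1 h2
    obtain ⟨t, ht⟩ := hbij.2 (ZU.ev (Cl.topology T) _ _ s)
    have := hS.epi_g
    obtain ⟨V', hV', hvV', t₁, ht₁⟩ := (isCosheaf_ZN N).lift S.g
      ((ZU.ev (Cl.topology N) ((opensToCl N).obj V) S.X₃).symm t) v hv
    refine ⟨V', hV', hvV', Ext.mk₀ ((ZU.ev (Cl.topology T) ((clBC p).obj ((opensToCl N).obj V'))
      ((pullCl p).obj S.X₂)).symm (sg p S.X₂ _ (ZU.ev (Cl.topology N) ((opensToCl N).obj V') _ t₁))),
      ?_⟩
    rw [map_mk₀, res_mk₀]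
    refine congrArg Ext.mk₀ (lift_sec p S.g ((opensToCl N).map (homOfLE hV')) s t ht _ ?_)
    have h1 := congrArg (ZU.ev (Cl.topology N) ((opensToCl N).obj V') S.X₃) ht₁
    refine (ZU.ev_comp _ _).symm.trans (h1.trans ?_)
    refine (ZU.ev_map_comp _ _).trans ?_
    rw [AddEquiv.apply_symm_apply]
  | succ q ih =>
    obtain ⟨S, hS, hI, rfl⟩ := exists_injective G
    have hS' : (S.map (pullCl p)).ShortExact := hS.map_of_exact (pullCl p)
    refine kill_of (Z := ZP p) hS' x (eq_zero_of_injective_pull p e he S.X₂ V (q + 1) _) v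
      (fun y => ?_)
    obtain ⟨V', hV', hvV', h⟩ := ih S.X₃ y
    exact ⟨V', hV', hvV', 0, (map_zero _).trans h.symm⟩

omit he in
/-- Local sections of an object of the classical site. -/
theorem exists_section (U : Cl N) (u : U.E) : ∃ (V : Opens N) (j : (opensToCl N).obj V ⟶ U)
    (hv : U.p u ∈ V), j.toFun ⟨U.p u, hv⟩ = u ∧ IsOpenEmbedding j.toFun := by
  obtain ⟨f, hu, hf⟩ := U.lh u
  have hmem : U.p u ∈ (⟨f.target, f.open_target⟩ : Opens N) := by
    rw [hf]
    exact f.map_source hu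
  have hcont : Continuous (fun v : (⟨f.target, f.open_target⟩ : Opens N) => f.symm v.1) :=
    continuousOn_iff_continuous_domRestrict.1 f.continuousOn_symm
  have hover : ∀ v : (⟨f.target, f.open_target⟩ : Opens N), U.p (f.symm v.1) = v.1 := by
    intro v
    rw [hf]
    exact f.right_inv v.2
  let j : (opensToCl N).obj ⟨f.target, f.open_target⟩ ⟶ U := ⟨fun v => f.symm v.1, hcont, hover⟩
  refine ⟨⟨f.target, f.open_target⟩, j, hmem, ?_, ?_⟩
  · change f.symm (U.p u) = u
    rw [hf]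
    exact f.left_inv hu
  · refine (isLocalHomeomorph_toFun j).isOpenEmbedding_of_injective ?_
    intro a b hab
    apply Subtype.ext
    rw [← hover a, ← hover b]
    exact congrArg U.p hab

/-- `p^* G` satisfies the criterion. -/
theorem dies (G : Cl.Ab N) : ClsH.Dies.{1, 1} (clBC p) (Cl.topology N) ((pullCl p).obj G) := by
  intro U q x
  let S : Sieve U :=
    { arrows := fun _ g => ClsH.res ((clBC p).map g) x = 0
      downward_closed := by
        intro B B' g hg k
        rw [Functor.map_comp, ← ClsH.res_res, hg, ClsH.res_zero] }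
  refine ⟨S, fun u => ?_, fun V g hg => hg⟩
  obtain ⟨V, j, hv, hju, hj⟩ := exists_section U u
  obtain ⟨V', hV', hvV', h⟩ := exists_kill p e he q G V (ClsH.res ((clBC p).map j) x) _ hv
  refine ⟨_, (opensToCl N).map (homOfLE hV') ≫ j, ?_, ?_, ⟨⟨U.p u, hvV'⟩, hju⟩⟩
  · change ClsH.res ((clBC p).map ((opensToCl N).map (homOfLE hV') ≫ j)) x = 0
    rw [Functor.map_comp, ← ClsH.res_res]
    exact h
  · exact hj.comp (IsOpenEmbedding.inclusion hV' (V'.isOpen.preimage continuous_subtype_val))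

/-- `R^q p_* (p^* G) = 0` for `q > 0`. -/
theorem isZero_rightDerived (G : Cl.Ab N) (q : ℕ) (hq : 0 < q) :
    IsZero (((pushCl p).rightDerived q).obj ((pullCl p).obj G)) :=
  ClsH.isZero_rightDerived_push (clBC p) ((pullCl p).obj G) (dies p e he G) q hq

end Main

section Complex

variable {T N P : Type} [TopologicalSpace T] [TopologicalSpace N] [TopologicalSpace P] (p : C(T, N))

/-- The unit is an isomorphism for a product with a space homeomorphic to `ℝ^n`. -/
theorem isIso_unit_of {n : Type} [Fintype n] (h : P ≃ₜ (n → ℝ)) (e : T ≃ₜ N × P)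
    (he : ∀ t, (e t).1 = p t) (G : Cl.Ab N) : IsIso ((adjCl p).unit.app G) :=
  isIso_unit p (e.trans ((Homeomorph.refl N).prodCongr h)) he G

/-- `R^q p_* (p^* G) = 0`, `q > 0`, for a product with a space homeomorphic to `ℝ^n`. -/
theorem isZero_rightDerived_of {n : Type} [Fintype n] (h : P ≃ₜ (n → ℝ)) (e : T ≃ₜ N × P)
    (he : ∀ t, (e t).1 = p t) (G : Cl.Ab N) (q : ℕ) (hq : 0 < q) :
    IsZero (((pushCl p).rightDerived q).obj ((pullCl p).obj G)) :=
  isZero_rightDerived p (e.trans ((Homeomorph.refl N).prodCongr h)) he G q hq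

/-- `ℂ ≃ₜ ℝ²`. -/
def homeoC : ℂ ≃ₜ (Fin 2 → ℝ) :=
  Complex.equivRealProdCLM.toHomeomorph.trans (Homeomorph.finTwoArrow).symm

/-- `ℂ^ι ≃ₜ ℝ^(ι × 2)`. -/
def homeoCn (ι : Type) : (ι → ℂ) ≃ₜ (ι × Fin 2 → ℝ) :=
  (Homeomorph.piCongrRight (fun _ => homeoC)).trans {
      toFun := Function.uncurry
      invFun := Function.curry
      left_inv := fun _ => rfl
      right_inv := fun _ => rfl
      continuous_toFun := continuous_pi fun x => (continuous_apply x.2).comp (continuous_apply x.1)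
      continuous_invFun := continuous_pi fun i => continuous_pi fun j => continuous_apply (i, j) }

theorem isIso_unit_C (e : T ≃ₜ N × ℂ) (he : ∀ t, (e t).1 = p t) (G : Cl.Ab N) :
    IsIso ((adjCl p).unit.app G) := isIso_unit_of p homeoC e he G

theorem isZero_rightDerived_C (e : T ≃ₜ N × ℂ) (he : ∀ t, (e t).1 = p t) (G : Cl.Ab N) (q : ℕ)
    (hq : 0 < q) : IsZero (((pushCl p).rightDerived q).obj ((pullCl p).obj G)) :=
  isZero_rightDerived_of p homeoC e he G q hq

theorem isIso_unit_Cn {ι : Type} [Fintype ι] (e : T ≃ₜ N × (ι → ℂ)) (he : ∀ t, (e t).1 = p t)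
    (G : Cl.Ab N) : IsIso ((adjCl p).unit.app G) := isIso_unit_of p (homeoCn ι) e he G

theorem isZero_rightDerived_Cn {ι : Type} [Fintype ι] (e : T ≃ₜ N × (ι → ℂ))
    (he : ∀ t, (e t).1 = p t) (G : Cl.Ab N) (q : ℕ) (hq : 0 < q) :
    IsZero (((pushCl p).rightDerived q).obj ((pullCl p).obj G)) :=
  isZero_rightDerived_of p (homeoCn ι) e he G q hq

end Complex

end Groth.Agent.An.H4.HI
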