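import Groth.Agent.CohtopA.Germ
import Mathlib.Topology.Connected.Basic

/-!
# Sections of the inverse image along an open map with connected fibres

`bijective_pb`: if `f : W → V` is open, surjective, with preconnected fibres, then
`F(V) → (f^{-1}F)(W)` is bijective for every abelian sheaf `F`.
-/

set_option autoImplicit false
universe u

open CategoryTheory TopologicalSpace Opposite CategoryTheory.Limits
open Groth.Agent.CohtopA.Sec Groth.Agent.CohtopA.Germ Groth.Agent.CohtopB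

namespace Groth.Agent.An.H4.HIGerm

variable {X Y : TopCat.{u}} (f : X ⟶ Y)

/-- `f : W → V` is open, surjective and has preconnected fibres. -/
structure ConnOn (W : Opens X) (V : Opens Y) : Prop where
  le : W ≤ (Opens.map f).obj V
  surj : ∀ y ∈ V, ∃ x ∈ W, f x = y
  isOpen_image : ∀ W' : Opens X, W' ≤ W → IsOpen (f '' (W' : Set X))
  conn : ∀ y ∈ V, IsPreconnected ((W : Set X) ∩ f ⁻¹' {y})

variable {f} {W : Opens X} {V : Opens Y} (h : ConnOn f W V) (F : CohTop.Ab Y)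
include h

theorem injective_pb : Function.Injective (fun t : Γs F V =>
    r ((CohTop.pull f).obj F) h.le (pb f F V t)) := by
  intro t t' e
  refine sep_gm _ _ fun y hy => ?_
  obtain ⟨x, hx, rfl⟩ := h.surj y hy
  apply (sc_bijective f F x).1
  rw [sc_gm f F x V hy, sc_gm f F x V hy]
  have := congrArg (gm ((CohTop.pull f).obj F) x hx) e
  dsimp only at this
  rwa [gm_r, gm_r] at this

/-- A section of the inverse image over `W` comes near a whole fibre from a section of `F`. -/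
theorem exists_fibre (s : Γs ((CohTop.pull f).obj F) W) (y : Y) (hy : y ∈ V) :
    ∃ (U : Opens Y) (_ : y ∈ U) (t : Γs F U) (O : Opens X) (hO : O ≤ W)
      (hO' : O ≤ (Opens.map f).obj U), r _ hO s = r _ hO' (pb f F U t) ∧
        ∀ x ∈ W, f x = y → x ∈ O := by
  obtain ⟨x₀, hx₀, hy₀⟩ := h.surj y hy
  obtain ⟨U, t, W', k, k', hxW', e⟩ := exists_local_pb f F s x₀ hx₀
  have hyU : y ∈ U := by
    rw [← hy₀]
    exact k' hxW'
  obtain ⟨O, hO, hO', eO, hmax⟩ := exists_agree s (pb f F U t)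
  -- the bad open
  let O' : Set X := {x | ∃ (W₁ : Opens X) (l : W₁ ≤ W) (U₁ : Opens Y) (t₁ : Γs F U₁)
    (l' : W₁ ≤ (Opens.map f).obj U₁) (hy₁ : y ∈ U₁), x ∈ W₁ ∧ r _ l s = r _ l' (pb f F U₁ t₁) ∧
      gm F y hy₁ t₁ ≠ gm F y hyU t}
  have hO'open : IsOpen O' := by
    rw [isOpen_iff_forall_mem_open]
    rintro x ⟨W₁, l, U₁, t₁, l', hy₁, hx₁, e₁, hne⟩
    exact ⟨W₁, fun x' hx' => ⟨W₁, l, U₁, t₁, l', hy₁, hx', e₁, hne⟩, W₁.isOpen, hx₁⟩
  have hcover : (W : Set X) ∩ f ⁻¹' {y} ⊆ O ∪ O' := by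
    rintro x ⟨hxW, hxy⟩
    obtain ⟨U₁, t₁, W₁, l, l', hx₁, e₁⟩ := exists_local_pb f F s x hxW
    have hxy' : f x = y := hxy
    have hy₁ : y ∈ U₁ := by
      rw [← hxy']
      exact l' hx₁
    by_cases hne : gm F y hy₁ t₁ = gm F y hyU t
    · left
      have hxO : x ∈ (Opens.map f).obj U := by
        change f x ∈ U
        rw [hxy']
        exact hyU
      refine hmax x hxW hxO ?_
      subst hxy'
      rw [← sc_gm f F x U hyU, ← hne, sc_gm f F x U₁ hy₁, ← gm_r l' x hx₁, ← e₁, gm_r]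
    · right
      exact ⟨W₁, l, U₁, t₁, l', hy₁, hx₁, e₁, hne⟩
  refine ⟨U, hyU, t, O, hO, hO', eO, fun x hx hxy => ?_⟩
  by_contra hxO
  have h1 : (((W : Set X) ∩ f ⁻¹' {y}) ∩ O).Nonempty := by
    refine ⟨x₀, ⟨hx₀, hy₀⟩, ?_⟩
    have hx₀U : x₀ ∈ (Opens.map f).obj U := k' hxW'
    refine hmax x₀ hx₀ hx₀U ?_
    rw [← gm_r k x₀ hxW', e, gm_r]
  have h2 : (((W : Set X) ∩ f ⁻¹' {y}) ∩ O').Nonempty :=
    ⟨x, ⟨hx, hxy⟩, (hcover ⟨hx, hxy⟩).resolve_left hxO⟩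
  obtain ⟨z, ⟨hzW, hzy⟩, hzO, W₁, l, U₁, t₁, l', hy₁, hz₁, e₁, hne⟩ :=
    h.conn y hy O O' O.isOpen hO'open hcover h1 h2
  have hzy' : f z = y := hzy
  subst hzy'
  apply hne
  apply (sc_bijective f F z).1
  rw [sc_gm f F z U hyU, sc_gm f F z U₁ hy₁, ← gm_r l' z hz₁, ← e₁, gm_r, ← gm_r hO' z hzO, ← eO,
    gm_r]

theorem surjective_pb : Function.Surjective (fun t : Γs F V =>
    r ((CohTop.pull f).obj F) h.le (pb f F V t)) := by
  intro s
  choose U hyU t O hO hO' eO hfib using exists_fibre h F s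
  -- the germ determined by `s`
  have key : ∀ (y : Y) (hy : y ∈ V) (x : X) (hx : x ∈ O y hy),
      sc f F x (gm F (f x) (hO' y hy hx) (t y hy)) = gm _ x (hO y hy hx) s := by
    intro y hy x hx
    rw [sc_gm f F x (U y hy) (hO' y hy hx), ← gm_r (hO' y hy) x hx, ← eO y hy, gm_r]
  let V' : V → Opens Y := fun y => U y.1 y.2 ⊓ ⟨f '' (O y.1 y.2 : Set X),
    h.isOpen_image (O y.1 y.2) (hO y.1 y.2)⟩
  have hV' : ∀ y : V, V' y ≤ U y.1 y.2 := fun y => inf_le_left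
  have hmem : ∀ (y : Y) (hy : y ∈ V), y ∈ V' ⟨y, hy⟩ := by
    intro y hy
    refine ⟨hyU y hy, ?_⟩
    obtain ⟨x, hx, hxy⟩ := h.surj y hy
    exact ⟨x, hfib y hy x hx hxy, hxy⟩
  have hVle : ∀ y : V, V' y ≤ V := by
    rintro ⟨y, hy⟩ _ ⟨-, x, hx, rfl⟩
    exact h.le (hO y hy hx)
  have hVsup : V = ⨆ y, V' y := le_antisymm
    (fun y hy => Opens.mem_iSup.2 ⟨⟨y, hy⟩, hmem y hy⟩) (iSup_le hVle)
  -- all germs agree
  have hgerm : ∀ (y : V) (y' : Y) (hy' : y' ∈ V' y),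
      gm F y' (hV' y hy') (t y.1 y.2) =
        gm F y' (hyU y' (hVle y hy')) (t y' (hVle y hy')) := by
    rintro ⟨y, hy⟩ y' hy'
    obtain ⟨-, x, hx, rfl⟩ := id hy'
    apply (sc_bijective f F x).1
    have e1 := key y hy x hx
    have e2 := key (f x) (hVle ⟨y, hy⟩ hy') x (hfib (f x) _ x (hO y hy hx) rfl)
    exact e1.trans e2.symm
  obtain ⟨w, hw⟩ := glue' V' hVsup (fun y => r F (hV' y) (t y.1 y.2)) (by
    intro y₁ y₂
    refine sep_gm _ _ fun y' hy' => ?_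
    rw [gm_r, gm_r, gm_r, gm_r, hgerm y₁ y' hy'.1, hgerm y₂ y' hy'.2])
  refine ⟨w, sep_gm _ _ fun x hx => ?_⟩
  have hfx : f x ∈ V := h.le hx
  dsimp only
  rw [gm_r, ← sc_gm f F x V hfx]
  have e1 := congrArg (gm F (f x) (hmem (f x) hfx)) (hw ⟨f x, hfx⟩)
  rw [gm_r, gm_r] at e1
  rw [e1]
  exact key (f x) hfx x (hfib (f x) hfx x hx rfl)

/-- `F(V) → (f^{-1}F)(W)` is bijective. -/
theorem bijective_pb : Function.Bijective (fun t : Γs F V =>
    r ((CohTop.pull f).obj F) h.le (pb f F V t)) :=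
  ⟨injective_pb h F, surjective_pb h F⟩

end Groth.Agent.An.H4.HIGerm
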