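import Groth.Agent.An.H890.TopBC
import Groth.Agent.An.H4.HIGerm
import Groth.Agent.An.H537.Box
import Mathlib.CategoryTheory.Yoneda

/-!
# Sections of `p^* G` on `V × B` for `p : N × ℝ^n → N`

`p : C(T, N)`, `e : T ≃ₜ N × (n → ℝ)` over `N`.
* `isIso_bcOf_of_equiv`;
* `bijective_pbc` : `G(V) → (p^*G)(V × B)` is bijective for `B` a nonempty connected open of `ℝ^n`;
* `isIso_unit` : `G ⟶ p_* p^* G` is an isomorphism.
-/

set_option autoImplicit false
open CategoryTheory CategoryTheory.Limits Opposite TopologicalSpace Topology An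

noncomputable section

namespace Groth.Agent.An.H4.HISec

open Groth.Agent.An.H884.ClBC Groth.Agent.An.H890.SqPush Groth.Agent.An.H890.ULiftSite
  Groth.Agent.An.H890.Mates Groth.Agent.CohtopB Groth.Agent.CohtopA.Sec Groth.Agent.CohtopA.Germ
  Groth.Agent.An.H4.HIGerm

section equivalence

variable {C D E F : Type*} [Category* C] [Category* D] [Category* E] [Category* F]
  {L₁ : C ⥤ D} {R₁ : D ⥤ C} {L₂ : E ⥤ F} {R₂ : F ⥤ E} {G : C ⥤ E} {H : D ⥤ F}
  (adj₁ : L₁ ⊣ R₁) (adj₂ : L₂ ⊣ R₂) (θ : R₁ ⋙ G ⟶ H ⋙ R₂)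

theorem isIso_bcOf_of_equiv [G.Full] [G.Faithful] [H.IsEquivalence] [IsIso θ] (c : C) :
    IsIso ((bcOf adj₁ adj₂ θ).app c) := by
  have key : ∀ (d' : D), Function.Bijective
      (fun x : H.obj (L₁.obj c) ⟶ H.obj d' => (bcOf adj₁ adj₂ θ).app c ≫ x) := by
    intro d'
    have e : ∀ y : L₁.obj c ⟶ d', adj₂.homEquiv _ _ ((bcOf adj₁ adj₂ θ).app c ≫ H.map y) =
        G.map (adj₁.homEquiv _ _ y) ≫ θ.app d' := by
      intro y
      rw [Adjunction.homEquiv_unit, Adjunction.homEquiv_unit, R₂.map_comp]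
      have h1 := unit_bcOf adj₁ adj₂ θ c
      have h2 := θ.naturality y
      simp only [Functor.comp_map, Functor.comp_obj] at h1 h2
      rw [← Category.assoc]
      erw [h1]
      rw [Category.assoc, ← h2, G.map_comp, Category.assoc]
    have h1 : Function.Bijective (fun y : L₁.obj c ⟶ d' =>
        adj₂.homEquiv _ _ ((bcOf adj₁ adj₂ θ).app c ≫ H.map y)) := by
      have : (fun y : L₁.obj c ⟶ d' => adj₂.homEquiv _ _ ((bcOf adj₁ adj₂ θ).app c ≫ H.map y)) =
          (fun z : G.obj c ⟶ G.obj (R₁.obj d') => z ≫ θ.app d') ∘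
            (fun y : c ⟶ R₁.obj d' => G.map y) ∘ (adj₁.homEquiv c d') := by
        funext y
        exact e y
      rw [this]
      refine Function.Bijective.comp ?_ (Function.Bijective.comp ?_ (Equiv.bijective _))
      · exact ⟨fun a b h => (cancel_mono (θ.app d')).1 h, fun b => ⟨b ≫ inv (θ.app d'), by
          dsimp only
          rw [Category.assoc, IsIso.inv_hom_id]
          exact Category.comp_id b⟩⟩
      · exact ⟨G.map_injective, G.map_surjective⟩
    have h2 : Function.Bijective (fun y : L₁.obj c ⟶ d' => (bcOf adj₁ adj₂ θ).app c ≫ H.map y) :=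
      (Function.Bijective.of_comp_iff' (adj₂.homEquiv _ _).bijective _).1 h1
    have h3 : (fun y : L₁.obj c ⟶ d' => (bcOf adj₁ adj₂ θ).app c ≫ H.map y) =
      (fun x : H.obj (L₁.obj c) ⟶ H.obj d' => (bcOf adj₁ adj₂ θ).app c ≫ x) ∘
        (fun y : L₁.obj c ⟶ d' => H.map y) := rfl
    rw [h3] at h2
    exact (Function.Bijective.of_comp_iff _ ⟨H.map_injective, H.map_surjective⟩).1 h2
  refine isIso_of_coyoneda_map_bijective _ (fun T => ?_)
  let i : H.obj (H.objPreimage T) ≅ T := H.objObjPreimageIso T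
  have h4 : (fun x : (L₁ ⋙ H).obj c ⟶ T => (bcOf adj₁ adj₂ θ).app c ≫ x) =
      (fun z : (G ⋙ L₂).obj c ⟶ H.obj (H.objPreimage T) => z ≫ i.hom) ∘
        (fun x : H.obj (L₁.obj c) ⟶ H.obj (H.objPreimage T) => (bcOf adj₁ adj₂ θ).app c ≫ x) ∘
          (fun y : (L₁ ⋙ H).obj c ⟶ T => y ≫ i.inv) := by
    funext x
    simp
  rw [h4]
  refine Function.Bijective.comp ?_ (Function.Bijective.comp (key _) ?_)
  · exact ⟨fun a b h => (cancel_mono i.hom).1 h, fun b => ⟨b ≫ i.inv, by simp⟩⟩
  · exact ⟨fun a b h => (cancel_mono i.inv).1 h, fun b => ⟨b ≫ i.hom, by simp⟩⟩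

end equivalence

section main

variable {T N : Type} [TopologicalSpace T] [TopologicalSpace N] (p : C(T, N))

/-- The comparison between the inverse images on the spaces and on the classical sites. -/
def cmpU (G : Cl.Ab N) :
    (CohTop.pull (uMap p)).obj ((resU N).obj G) ⟶ (resU T).obj ((pullCl p).obj G) :=
  (bcOf (adjCl p) (TopPull.adj (uMap p)) (resUPush p).hom).app G

instance isIso_cmpU (G : Cl.Ab N) : IsIso (cmpU p G) :=
  isIso_bcOf_of_equiv (adjCl p) (TopPull.adj (uMap p)) (resUPush p).hom G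

theorem cmpU_pb (G : Cl.Ab N) (V : Opens (uT N)) (t : Γs ((resU N).obj G) V) :
    m (cmpU p G) ((Opens.map (uMap p)).obj V) (pb (uMap p) ((resU N).obj G) V t) =
      (((pullCl p).obj G).obj.map (uToClBCInv p V).op
        (((adjCl p).unit.app G).hom.app (op ((uToCl N).obj V)) t) :) := by
  have h := unit_bcOf (adjCl p) (TopPull.adj (uMap p)) (resUPush p).hom G
  exact congrArg (fun φ => m φ V t) h

/-- The map `W ⟶ T ×_N V` for `p(W) ⊆ V`. -/
def kHom (W : Opens T) (V : Opens N) (h : ∀ t ∈ W, p t ∈ V) :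
    (opensToCl T).obj W ⟶ (clBC p).obj ((opensToCl N).obj V) :=
  ⟨fun t => ⟨(t.1, ⟨p t.1, h t.1 t.2⟩), rfl⟩,
    Continuous.subtype_mk (continuous_subtype_val.prodMk
      ((p.continuous.comp continuous_subtype_val).subtype_mk _)) _, fun _ => rfl⟩

/-- The preimage of an open. -/
def pre (V : Opens N) : Opens T := ⟨p ⁻¹' V, V.isOpen.preimage p.continuous⟩

theorem mem_pre_bc (V : Opens N) (q : ((clBC p).obj ((opensToCl N).obj V)).E) :
    q.1.1 ∈ pre p V := by
  change p q.1.1 ∈ V
  have h : p q.1.1 = q.1.2.1 := q.2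
  rw [h]
  exact q.1.2.2

/-- The map `T ×_N V ⟶ p⁻¹ V`. -/
def kInv (V : Opens N) : (clBC p).obj ((opensToCl N).obj V) ⟶ (opensToCl T).obj (pre p V) :=
  ⟨fun q => ⟨q.1.1, mem_pre_bc p V q⟩,
    (continuous_fst.comp continuous_subtype_val).subtype_mk _, fun _ => rfl⟩

/-- `p⁻¹ V ≅ T ×_N V`. -/
def kIso (V : Opens N) : (opensToCl T).obj (pre p V) ≅ (clBC p).obj ((opensToCl N).obj V) where
  hom := kHom p (pre p V) V (fun _ ht => ht)
  inv := kInv p V
  hom_inv_id := rfl
  inv_hom_id := An.Cl.hom_ext (funext fun q => Subtype.ext (Prod.ext rfl (Subtype.ext q.2)))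

/-- The unit on sections. -/
def sg (G : Cl.Ab N) (A : Cl N) :
    G.obj.obj (op A) ⟶ ((pullCl p).obj G).obj.obj (op ((clBC p).obj A)) :=
  ((adjCl p).unit.app G).hom.app (op A)

theorem sg_map (G : Cl.Ab N) {A B : Cl N} (a : A ⟶ B) :
    G.obj.map a.op ≫ sg p G A = sg p G B ≫ ((pullCl p).obj G).obj.map ((clBC p).map a).op :=
  ((adjCl p).unit.app G).hom.naturality a.op

theorem map_sg {G G' : Cl.Ab N} (φ : G ⟶ G') (A : Cl N) :
    φ.hom.app (op A) ≫ sg p G' A = sg p G A ≫ ((pullCl p).map φ).hom.app (op ((clBC p).obj A)) :=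
  congrArg (fun ψ => ψ.hom.app (op A)) ((adjCl p).unit.naturality φ)

/-- The map `G(V) → (p^*G)(W)`. -/
def pbc (G : Cl.Ab N) (W : Opens T) (V : Opens N) (h : ∀ t ∈ W, p t ∈ V) :
    G.obj.obj (op ((opensToCl N).obj V)) ⟶
      ((pullCl p).obj G).obj.obj (op ((opensToCl T).obj W)) :=
  sg p G ((opensToCl N).obj V) ≫ ((pullCl p).obj G).obj.map (kHom p W V h).op

theorem bijective_pbc (G : Cl.Ab N) (W : Opens T) (V : Opens N)
    (hc : ConnOn (uMap p) ((up T).obj W) ((up N).obj V)) (h : ∀ t ∈ W, p t ∈ V) :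
    Function.Bijective (pbc p G W V h) := by
  have h1 := bijective_pb hc ((resU N).obj G)
  have h2 : Function.Bijective (m (cmpU p G) ((up T).obj W)) := by
    have : IsIso ((cmpU p G).hom.app (op ((up T).obj W))) := inferInstance
    exact (ConcreteCategory.isIso_iff_bijective _).1 this
  have h3 := h2.comp h1
  refine (Eq.mp ?_ h3)
  congr 1
  funext t
  have h4 := cmpU_pb p G ((up N).obj V) t
  have h5 := m_r (cmpU p G) hc.le (pb (uMap p) ((resU N).obj G) ((up N).obj V) t)
  refine h5.trans ?_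
  rw [h4]
  change ((pullCl p).obj G).obj.map _ (((pullCl p).obj G).obj.map _ _) =
    ((pullCl p).obj G).obj.map _ _
  rw [← ConcreteCategory.comp_apply, ← Functor.map_comp]
  rfl

variable {n : Type} (e : T ≃ₜ N × (n → ℝ)) (he : ∀ t, (e t).1 = p t)
include he

theorem connOn (W : Opens T) (V : Opens N) (B : Set (n → ℝ)) (hB : _root_.IsConnected B)
    (hW : ∀ t, t ∈ W ↔ (e t).1 ∈ V ∧ (e t).2 ∈ B) :
    ConnOn (uMap p) ((up T).obj W) ((up N).obj V) where
  le x hx := by
    have h1 := ((hW x.down).1 hx).1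
    rw [he] at h1
    exact h1
  surj y hy := by
    obtain ⟨b, hb⟩ := hB.nonempty
    refine ⟨ULift.up (e.symm (y.down, b)), ?_, ?_⟩
    · refine (hW _).2 ?_
      rw [e.apply_symm_apply]
      exact ⟨hy, hb⟩
    · apply ULift.ext
      change p (e.symm (y.down, b)) = y.down
      rw [← he, e.apply_symm_apply]
  isOpen_image W' _ := by
    have h1 : IsOpenMap (fun t : T => p t) := by
      have : (fun t : T => p t) = Prod.fst ∘ e := funext fun t => (he t).symm
      rw [this]
      exact isOpenMap_fst.comp e.isOpenMap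
    have h2 : (uMap p '' (W' : Set (uT T))) =
        ULift.down ⁻¹' ((fun t : T => p t) '' (ULift.up ⁻¹' (W' : Set (uT T)))) := by
      ext y
      constructor
      · rintro ⟨x, hx, rfl⟩
        exact ⟨x.down, hx, rfl⟩
      · rintro ⟨t, ht, hty⟩
        exact ⟨ULift.up t, ht, ULift.ext _ _ hty⟩
    rw [h2]
    exact (h1 _ (W'.isOpen.preimage continuous_uliftUp)).preimage continuous_uliftDown
  conn y hy := by
    have h1 : (((up T).obj W : Set (uT T)) ∩ uMap p ⁻¹' {y}) =
        (fun b => ULift.up (e.symm (y.down, b))) '' B := by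
      ext x
      constructor
      · rintro ⟨hx, hxy⟩
        have hxy' : p x.down = y.down := congrArg ULift.down hxy
        refine ⟨(e x.down).2, ((hW x.down).1 hx).2, ?_⟩
        apply ULift.ext
        change e.symm (y.down, (e x.down).2) = x.down
        rw [← hxy', ← he]
        exact e.symm_apply_apply _
      · rintro ⟨b, hb, rfl⟩
        constructor
        · refine (hW _).2 ?_
          rw [e.apply_symm_apply]
          exact ⟨hy, hb⟩
        · apply ULift.ext
          change p (e.symm (y.down, b)) = y.down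
          rw [← he, e.apply_symm_apply]
    rw [h1]
    refine hB.isPreconnected.image _ (Continuous.continuousOn ?_)
    exact continuous_uliftUp.comp (e.symm.continuous.comp (by fun_prop))

/-- `G ⟶ p_* p^* G` is an isomorphism. -/
theorem isIso_unit (G : Cl.Ab N) : IsIso ((adjCl p).unit.app G) := by
  have h1 : IsIso ((resU N).map ((adjCl p).unit.app G)) := by
    have h2 : ∀ V : (Opens (uT N))ᵒᵖ, IsIso (((resU N).map ((adjCl p).unit.app G)).hom.app V) := by
      intro V
      let V' : Opens N := (dn N).obj V.unop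
      let W : Opens T := pre p V'
      have hc : ConnOn (uMap p) ((up T).obj W) ((up N).obj V') :=
        connOn p e he W V' (Set.univ : Set (n → ℝ)) isConnected_univ (fun t => by
          rw [he]
          exact ⟨fun h => ⟨h, trivial⟩, fun h => h.1⟩)
      have h3 := bijective_pbc p G W V' hc (fun t ht => ht)
      have h4 : IsIso (((pullCl p).obj G).obj.map (kHom p W V' (fun t ht => ht)).op) :=
        (((pullCl p).obj G).obj.mapIso (kIso p V').op).isIso_hom
      rw [← ConcreteCategory.isIso_iff_bijective] at h3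
      exact @IsIso.of_isIso_comp_right _ _ _ _ _ (((adjCl p).unit.app G).hom.app
        (op ((opensToCl N).obj V'))) (((pullCl p).obj G).obj.map (kHom p W V' (fun t ht => ht)).op)
        h4 h3
    have h5 : IsIso ((resU N).map ((adjCl p).unit.app G)).hom := NatIso.isIso_of_isIso_app _
    exact (isIso_iff_of_reflects_iso _ (sheafToPresheaf (Opens.grothendieckTopology (uT N))
      AddCommGrpCat.{1})).1 h5
  exact isIso_of_reflects_iso _ (resU N)

end main

end Groth.Agent.An.H4.HISec
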